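import Groth.Agent.HilbD.Basic

/-!
# Graphs of sections and push-forward along closed immersions for the Hilbert functor of points
-/

set_option autoImplicit false

universe u

open CategoryTheory CategoryTheory.Limits AlgebraicGeometry

noncomputable section

namespace Groth.Agent.HilbD

/-- Kernels are compatible with base change. -/
theorem comap_ker_of_isPullback {P Z A B : Scheme.{u}} {c' : P ⟶ A} {a : P ⟶ Z} {m : A ⟶ B} {c : Z ⟶ B}
    [IsClosedImmersion c] (h : IsPullback c' a m c) : c.ker.comap m = c'.ker := by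
  rw [← Scheme.IdealSheafData.ker_fst_of_isClosedImmersion]
  conv_rhs => rw [← h.isoPullback_hom_fst, Scheme.Hom.ker_comp_of_isIso]

theorem isFinLocFreeOfDeg_one_of_isIso {A B : Scheme.{u}} (e : A ⟶ B) [IsIso e] :
    Mor2.IsFinLocFreeOfDeg 1 e :=
  ⟨⟨inferInstance, inferInstance, inferInstance⟩, fun y => congrFun (Scheme.Hom.finrank_eq_one_of_isIso e) y⟩

section Section

variable {X S : Scheme.{u}} (f : X ⟶ S) [IsSeparated f]

/-- The graph of a section. -/
abbrev graph (T : Over S) (x : T.left ⟶ X) (hx : x ≫ f = T.hom) : T.left ⟶ PicF.XT f T :=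
  pullback.lift x (𝟙 T.left) (by simpa using hx)

omit [IsSeparated f] in
theorem graph_proj (T : Over S) (x : T.left ⟶ X) (hx : x ≫ f = T.hom) :
    graph f T x hx ≫ PicF.XTproj f T = 𝟙 T.left := pullback.lift_snd _ _ _

theorem isClosedImmersion_graph (T : Over S) (x : T.left ⟶ X) (hx : x ≫ f = T.hom) :
    IsClosedImmersion (graph f T x hx) := by
  haveI : IsClosedImmersion (graph f T x hx ≫ PicF.XTproj f T) := by rw [graph_proj]; infer_instance
  haveI : IsSeparated (PicF.XTproj f T) := inferInstanceAs (IsSeparated (pullback.snd f T.hom))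
  exact IsClosedImmersion.of_comp _ (PicF.XTproj f T)

theorem isFinLocFreeOfDeg_secGraph (T : Over S) (x : T.left ⟶ X) (hx : x ≫ f = T.hom) :
    Mor2.IsFinLocFreeOfDeg 1 ((_root_.HilbD.secGraph f T x hx).subschemeι ≫ PicF.XTproj f T) := by
  haveI := isClosedImmersion_graph f T x hx
  let e : T.left ⟶ (_root_.HilbD.secGraph f T x hx).subscheme := (graph f T x hx).toImage
  haveI : IsIso e := inferInstanceAs (IsIso (graph f T x hx).toImage)
  have h : e ≫ (_root_.HilbD.secGraph f T x hx).subschemeι ≫ PicF.XTproj f T = 𝟙 _ := by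
    rw [← graph_proj f T x hx, ← Category.assoc]
    exact congrArg (· ≫ PicF.XTproj f T) (graph f T x hx).toImage_imageι
  have h' : (_root_.HilbD.secGraph f T x hx).subschemeι ≫ PicF.XTproj f T = inv e := by
    rw [← cancel_epi e, IsIso.hom_inv_id]; exact h
  rw [h']
  exact isFinLocFreeOfDeg_one_of_isIso _

/-- The graph as an object of the Hilbert functor of one point. -/
def secObj (T : Over S) (x : T.left ⟶ X) (hx : x ≫ f = T.hom) : _root_.HilbD.Obj f 1 T :=
  ⟨_root_.HilbD.secGraph f T x hx, isFinLocFreeOfDeg_secGraph f T x hx⟩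

theorem pull_secGraph {T T' : Over S} (g : T' ⟶ T) (x : T.left ⟶ X) (hx : x ≫ f = T.hom) :
    _root_.HilbD.pull f g (_root_.HilbD.secGraph f T x hx) =
      _root_.HilbD.secGraph f T' (g.left ≫ x) (by rw [Category.assoc, hx, Over.w g]) := by
  haveI := isClosedImmersion_graph f T x hx
  rw [pull_eq_comap]
  refine comap_ker_of_isPullback (a := g.left) (IsPullback.flip ?_)
  refine IsPullback.of_bot ?_ ?_ (isPullback_XTmap f g)
  · rw [graph_proj f T' (g.left ≫ x) (by rw [Category.assoc, hx, Over.w g]), graph_proj f T x hx]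
    exact IsPullback.of_vert_isIso ⟨by simp⟩
  · apply pullback.hom_ext
    · rw [Category.assoc, Category.assoc, pullback.lift_fst, XTmap_fst, pullback.lift_fst]
    · show (g.left ≫ graph f T x hx) ≫ PicF.XTproj f T = (pullback.lift (g.left ≫ x) (𝟙 _) _ ≫ PicF.XTmap f g) ≫ PicF.XTproj f T
      rw [Category.assoc, graph_proj, Category.assoc, XTmap_proj, Category.comp_id]
      exact ((pullback.lift_snd_assoc _ _ _ _).trans (Category.id_comp _)).symm

theorem secGraph_injective {T : Over S} {x x' : T.left ⟶ X} (hx : x ≫ f = T.hom) (hx' : x' ≫ f = T.hom)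
    (h : _root_.HilbD.secGraph f T x hx = _root_.HilbD.secGraph f T x' hx') : x = x' := by
  haveI := isClosedImmersion_graph f T x' hx'
  let z := IsClosedImmersion.lift (graph f T x' hx') (graph f T x hx) h.symm.le
  have hz : z ≫ graph f T x' hx' = graph f T x hx := IsClosedImmersion.lift_fac _ _ _
  have hz1 : z = 𝟙 _ := by
    have := congrArg (· ≫ PicF.XTproj f T) hz
    simpa [graph_proj] using this
  have := congrArg (· ≫ pullback.fst f T.hom) hz
  simpa [hz1, pullback.lift_fst] using this.symm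

theorem exists_eq_secGraph {T : Over S} (I : _root_.HilbD.Obj f 1 T) :
    ∃ (x : T.left ⟶ X) (hx : x ≫ f = T.hom), I.1 = _root_.HilbD.secGraph f T x hx := by
  obtain ⟨⟨h1, h2, h3⟩, h4⟩ := I.2
  haveI := h1; haveI := h2; haveI := h3
  haveI : IsIso (I.1.subschemeι ≫ PicF.XTproj f T) :=
    (Scheme.Hom.isIso_iff_finrank_eq _).mpr (funext h4)
  let s := inv (I.1.subschemeι ≫ PicF.XTproj f T) ≫ I.1.subschemeι
  have hs : s ≫ PicF.XTproj f T = 𝟙 _ := by rw [Category.assoc, IsIso.inv_hom_id]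
  have hx : (s ≫ pullback.fst f T.hom) ≫ f = T.hom := by
    rw [Category.assoc, pullback.condition, ← Category.assoc]
    exact (congrArg (· ≫ T.hom) hs).trans (Category.id_comp _)
  refine ⟨s ≫ pullback.fst f T.hom, hx, ?_⟩
  have hgr : graph f T (s ≫ pullback.fst f T.hom) hx = s := by
    apply pullback.hom_ext
    · rw [pullback.lift_fst]
    · exact (graph_proj _ _ _ _).trans hs.symm
  show I.1 = (graph f T (s ≫ pullback.fst f T.hom) hx).ker
  rw [hgr, Scheme.Hom.ker_comp_of_isIso, Scheme.IdealSheafData.ker_subschemeι]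

end Section

section Push

variable {X Y S : Scheme.{u}} (i : X ⟶ Y) (g : Y ⟶ S)

/-- `X_T ⟶ Y_T`. -/
abbrev mapT (T : Over S) : PicF.XT (i ≫ g) T ⟶ PicF.XT g T :=
  pullback.map (i ≫ g) T.hom g T.hom i (𝟙 _) (𝟙 S) (Category.comp_id _) (by simp)

theorem mapT_fst (T : Over S) :
    mapT i g T ≫ pullback.fst g T.hom = pullback.fst (i ≫ g) T.hom ≫ i := pullback.lift_fst _ _ _

theorem mapT_proj (T : Over S) : mapT i g T ≫ PicF.XTproj g T = PicF.XTproj (i ≫ g) T :=
  (pullback.lift_snd _ _ _).trans (Category.comp_id _)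

theorem isPullback_mapT (T : Over S) :
    IsPullback (pullback.fst (i ≫ g) T.hom) (mapT i g T) i (pullback.fst g T.hom) := by
  refine IsPullback.of_bot ?_ (mapT_fst i g T).symm (IsPullback.of_hasPullback g T.hom)
  have h : mapT i g T ≫ pullback.snd g T.hom = pullback.snd (i ≫ g) T.hom := mapT_proj i g T
  rw [h]
  exact IsPullback.of_hasPullback (i ≫ g) T.hom

theorem mapT_XTmap {T T' : Over S} (a : T' ⟶ T) :
    mapT i g T' ≫ PicF.XTmap g a = PicF.XTmap (i ≫ g) a ≫ mapT i g T := by
  apply pullback.hom_ext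
  · rw [Category.assoc, XTmap_fst, mapT_fst, Category.assoc, mapT_fst, ← Category.assoc, XTmap_fst]
  · show (mapT i g T' ≫ PicF.XTmap g a) ≫ PicF.XTproj g T = (PicF.XTmap (i ≫ g) a ≫ mapT i g T) ≫ PicF.XTproj g T
    rw [Category.assoc, XTmap_proj, Category.assoc, mapT_proj, XTmap_proj, ← Category.assoc, mapT_proj]

theorem isPullback_mapT_XTmap {T T' : Over S} (a : T' ⟶ T) :
    IsPullback (PicF.XTmap (i ≫ g) a) (mapT i g T') (mapT i g T) (PicF.XTmap g a) := by
  refine IsPullback.of_right ?_ (mapT_XTmap i g a).symm (isPullback_mapT i g T)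
  rw [XTmap_fst, XTmap_fst]
  exact isPullback_mapT i g T'

variable [IsClosedImmersion i]

instance (T : Over S) : IsClosedImmersion (mapT i g T) :=
  MorphismProperty.of_isPullback (P := @IsClosedImmersion) (isPullback_mapT i g T) ‹_›

omit [IsClosedImmersion i] in
theorem push_eq_map (T : Over S) (I : (PicF.XT (i ≫ g) T).IdealSheafData) :
    _root_.HilbD.push i g T I = I.map (mapT i g T) := rfl

theorem comap_push (T : Over S) (I : (PicF.XT (i ≫ g) T).IdealSheafData) :
    (_root_.HilbD.push i g T I).comap (mapT i g T) = I := by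
  show (I.subschemeι ≫ mapT i g T).ker.comap (mapT i g T) = I
  have h : IsPullback I.subschemeι (𝟙 I.subscheme) (mapT i g T) (I.subschemeι ≫ mapT i g T) := by
    refine ⟨⟨by simp⟩, ⟨PullbackCone.IsLimit.mk _ (fun s => s.snd) (fun s => ?_) (fun s => ?_) ?_⟩⟩
    · rw [← cancel_mono (mapT i g T), Category.assoc, s.condition]
    · exact Category.comp_id _
    · intro s l _ h2
      simpa using h2
  rw [comap_ker_of_isPullback h, Scheme.IdealSheafData.ker_subschemeι]

theorem push_comap (T : Over S) (J : (PicF.XT g T).IdealSheafData) (h : (mapT i g T).ker ≤ J) :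
    _root_.HilbD.push i g T (J.comap (mapT i g T)) = J := by
  have hle : (mapT i g T).ker ≤ J.subschemeι.ker := h.trans (Scheme.IdealSheafData.ker_subschemeι J).ge
  let l := IsClosedImmersion.lift (mapT i g T) J.subschemeι hle
  have hl : l ≫ mapT i g T = J.subschemeι := IsClosedImmersion.lift_fac _ _ _
  have hsq : IsPullback l (𝟙 J.subscheme) (mapT i g T) J.subschemeι := by
    refine ⟨⟨by simp [hl]⟩, ⟨PullbackCone.IsLimit.mk _ (fun s => s.snd) (fun s => ?_) (fun s => ?_) ?_⟩⟩
    · rw [← cancel_mono (mapT i g T), Category.assoc, hl, s.condition]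
    · exact Category.comp_id _
    · intro s l' _ h2
      simpa using h2
  conv_lhs => rw [← Scheme.IdealSheafData.ker_subschemeι J, comap_ker_of_isPullback hsq]
  rw [push_eq_map, Scheme.IdealSheafData.map_ker, hl, Scheme.IdealSheafData.ker_subschemeι]

theorem le_push (T : Over S) (I : (PicF.XT (i ≫ g) T).IdealSheafData) :
    (mapT i g T).ker ≤ _root_.HilbD.push i g T I := Scheme.Hom.le_ker_comp _ _

theorem pull_push {T T' : Over S} (a : T' ⟶ T) (I : (PicF.XT (i ≫ g) T).IdealSheafData) :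
    _root_.HilbD.pull g a (_root_.HilbD.push i g T I) =
      _root_.HilbD.push i g T' (_root_.HilbD.pull (i ≫ g) a I) := by
  obtain ⟨ψ, hψ, -⟩ := exists_isPullback_pull (i ≫ g) a I
  rw [pull_eq_comap, pull_eq_comap]
  show (I.subschemeι ≫ mapT i g T).ker.comap (PicF.XTmap g a) = ((I.comap (PicF.XTmap (i ≫ g) a)).subschemeι ≫ mapT i g T').ker
  have h1 : IsPullback ((I.comapIso (PicF.XTmap (i ≫ g) a)).hom ≫ pullback.snd _ _)
      (I.comap (PicF.XTmap (i ≫ g) a)).subschemeι I.subschemeι (PicF.XTmap (i ≫ g) a) := by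
    refine IsPullback.of_iso_pullback ⟨?_⟩ ((I.comapIso _) ≪≫ pullbackSymmetry _ _) ?_ ?_
    · rw [Category.assoc, ← pullback.condition, Scheme.IdealSheafData.comapIso_hom_fst_assoc]
    · simp
    · simp
  exact comap_ker_of_isPullback (h1.paste_vert (isPullback_mapT_XTmap i g a)).flip

theorem pull_ker_mapT {T T' : Over S} (a : T' ⟶ T) :
    _root_.HilbD.pull g a (mapT i g T).ker = (mapT i g T').ker := by
  rw [pull_eq_comap]
  exact comap_ker_of_isPullback (isPullback_mapT_XTmap i g a).flip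

omit [IsClosedImmersion i] in
theorem pull_comap_mapT {T T' : Over S} (a : T' ⟶ T) (J : (PicF.XT g T).IdealSheafData) :
    _root_.HilbD.pull (i ≫ g) a (J.comap (mapT i g T)) = (_root_.HilbD.pull g a J).comap (mapT i g T') := by
  rw [pull_eq_comap, pull_eq_comap, ← Scheme.IdealSheafData.comap_comp, ← Scheme.IdealSheafData.comap_comp,
    mapT_XTmap]

theorem isFinLocFreeOfDeg_push (d : ℕ) {T : Over S} {I : (PicF.XT (i ≫ g) T).IdealSheafData}
    (h : Mor2.IsFinLocFreeOfDeg d (I.subschemeι ≫ PicF.XTproj (i ≫ g) T)) :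
    Mor2.IsFinLocFreeOfDeg d ((_root_.HilbD.push i g T I).subschemeι ≫ PicF.XTproj g T) := by
  let c := I.subschemeι ≫ mapT i g T
  let e' : I.subscheme ⟶ (_root_.HilbD.push i g T I).subscheme := c.toImage
  haveI : IsIso e' := inferInstanceAs (IsIso c.toImage)
  have hc : e' ≫ (_root_.HilbD.push i g T I).subschemeι = c := c.toImage_imageι
  obtain ⟨⟨h1, h2, h3⟩, h4⟩ := h
  have e : (_root_.HilbD.push i g T I).subschemeι ≫ PicF.XTproj g T =
      inv e' ≫ (I.subschemeι ≫ PicF.XTproj (i ≫ g) T) := by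
    rw [IsIso.eq_inv_comp, ← Category.assoc, hc, Category.assoc, mapT_proj]
  rw [e]
  haveI := h1; haveI := h2; haveI := h3
  refine ⟨⟨inferInstance, inferInstance, inferInstance⟩, fun y => ?_⟩
  rw [Scheme.Hom.finrank_comp_left_of_isIso]
  exact h4 y

theorem isFinLocFreeOfDeg_comap (d : ℕ) {T : Over S} {J : (PicF.XT g T).IdealSheafData}
    (hle : (mapT i g T).ker ≤ J)
    (h : Mor2.IsFinLocFreeOfDeg d (J.subschemeι ≫ PicF.XTproj g T)) :
    Mor2.IsFinLocFreeOfDeg d ((J.comap (mapT i g T)).subschemeι ≫ PicF.XTproj (i ≫ g) T) := by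
  let c := (J.comap (mapT i g T)).subschemeι ≫ mapT i g T
  have hc : c.ker = J := push_comap i g T J hle
  obtain ⟨⟨h1, h2, h3⟩, h4⟩ := h
  have hle' : J.subschemeι.ker ≤ c.ker := by rw [hc, Scheme.IdealSheafData.ker_subschemeι]
  let l := IsClosedImmersion.lift J.subschemeι c hle'
  have hl : l ≫ J.subschemeι = c := IsClosedImmersion.lift_fac _ _ _
  haveI : IsIso l := IsClosedImmersion.isIso_of_ker_eq c J.subschemeι l hl
    (by rw [hc, Scheme.IdealSheafData.ker_subschemeι])
  have e : (J.comap (mapT i g T)).subschemeι ≫ PicF.XTproj (i ≫ g) T = l ≫ (J.subschemeι ≫ PicF.XTproj g T) := by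
    rw [← Category.assoc, hl, Category.assoc, mapT_proj]
  rw [e]
  haveI := h1; haveI := h2; haveI := h3
  refine ⟨⟨inferInstance, inferInstance, inferInstance⟩, fun y => ?_⟩
  rw [Scheme.Hom.finrank_comp_left_of_isIso]
  exact h4 y

/-- The Hilbert functor of a closed subscheme is a closed subfunctor. -/
theorem exists_sub (d : ℕ) (H : Over S) (Z : _root_.HilbD.Obj g d H) (hZ : _root_.HilbD.IsUniversal g d H Z) :
    ∃ (H' : Over S) (Z' : _root_.HilbD.Obj (i ≫ g) d H') (ι : H' ⟶ H), IsClosedImmersion ι.left ∧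
      _root_.HilbD.IsUniversal (i ≫ g) d H' Z' ∧
      _root_.HilbD.pull g ι Z.1 = _root_.HilbD.push i g H' Z'.1 := by
  obtain ⟨W, j, hj, hiff⟩ := exists_le_locus g Z.1 (mapT i g H).ker Z.2.1
  let H' : Over S := Over.mk (j ≫ H.hom)
  let ι : H' ⟶ H := Over.homMk j rfl
  have hle : (mapT i g H').ker ≤ _root_.HilbD.pull g ι Z.1 := by
    have := (hiff H' ι).mpr ⟨𝟙 W, Category.id_comp j⟩
    rwa [pull_ker_mapT] at this
  let Z' : _root_.HilbD.Obj (i ≫ g) d H' :=
    ⟨(_root_.HilbD.pull g ι Z.1).comap (mapT i g H'),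
      isFinLocFreeOfDeg_comap i g d hle (isFinLocFreeOfDeg_pull g d ι Z.2)⟩
  have hpush : _root_.HilbD.pull g ι Z.1 = _root_.HilbD.push i g H' Z'.1 := (push_comap i g H' _ hle).symm
  haveI : IsClosedImmersion j := hj
  refine ⟨H', Z', ι, hj, fun T Z'' => ?_, hpush⟩
  obtain ⟨a, ha, hau⟩ := hZ T ⟨_, isFinLocFreeOfDeg_push i g d Z''.2⟩
  obtain ⟨z, hz⟩ : ∃ z : T.left ⟶ W, z ≫ j = a.left := by
    refine (hiff T a).mp ?_
    rw [pull_ker_mapT, ha]
    exact le_push i g T _
  let b : T ⟶ H' := Over.homMk z (by show z ≫ j ≫ H.hom = T.hom; rw [reassoc_of% hz, Over.w a])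
  have hb : b ≫ ι = a := Over.OverMorphism.ext hz
  refine ⟨b, ?_, fun b' hb' => ?_⟩
  · show _root_.HilbD.pull (i ≫ g) b ((_root_.HilbD.pull g ι Z.1).comap (mapT i g H')) = Z''.1
    rw [pull_comap_mapT, ← pull_comp, hb, ha, comap_push]
  · have : b' ≫ ι = a := hau _ (by
      show _root_.HilbD.pull g (b' ≫ ι) Z.1 = _root_.HilbD.push i g T Z''.1
      rw [pull_comp, hpush, pull_push]
      exact congrArg _ hb')
    apply Over.OverMorphism.ext
    exact (cancel_mono j).mp ((congrArg CommaMorphism.left this).trans hz.symm)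

end Push

end Groth.Agent.HilbD
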