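import Groth.Agent.HilbD.Basic

/-!
# Gluing closed subschemes along open covers
-/

set_option autoImplicit false

universe u

open CategoryTheory CategoryTheory.Limits AlgebraicGeometry TopologicalSpace

noncomputable section

namespace Groth.Agent.HilbD

theorem eq_of_openCover {Y : Scheme.{u}} (𝒰 : Y.OpenCover) {I J : Y.IdealSheafData}
    (h : ∀ i, I.comap (𝒰.f i) = J.comap (𝒰.f i)) : I = J := by
  refine IdealSh.Comap.ext_of_forall_exists _ _ fun x => ?_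
  obtain ⟨y, hy⟩ := 𝒰.covers x
  obtain ⟨W, hW, -⟩ := IdealSh.Comap.exists_affine_le y (⊤ : (𝒰.X _).Opens) trivial
  refine ⟨⟨_, W.2.image_of_isOpenImmersion (𝒰.f _)⟩, ⟨y, hW, hy⟩, ?_⟩
  have := congrArg (fun K : (𝒰.X (𝒰.idx x)).IdealSheafData => K.ideal W) (h (𝒰.idx x))
  simp only [Scheme.IdealSheafData.ideal_comap_of_isOpenImmersion] at this
  exact Ideal.comap_injective_of_surjective _ (ConcreteCategory.bijective_of_isIso _).2 this

/-- The factorisation condition of a family of closed subschemes. -/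
def GlueCond {Y : Scheme.{u}} (𝒰 : Y.OpenCover) (I : ∀ i, (𝒰.X i).IdealSheafData) ⦃T : Scheme.{u}⦄
    (x : T ⟶ Y) : Prop :=
  ∀ i, (I i).comap (pullback.snd x (𝒰.f i)) = ⊥

theorem glueCond_of_lift {Y : Scheme.{u}} (𝒰 : Y.OpenCover) (I : ∀ i, (𝒰.X i).IdealSheafData)
    (hI : ∀ (i j : 𝒰.I₀) (P : Scheme.{u}) (a : P ⟶ 𝒰.X i) (b : P ⟶ 𝒰.X j),
      a ≫ 𝒰.f i = b ≫ 𝒰.f j → (I i).comap a = (I j).comap b)
    {T : Scheme.{u}} (x : T ⟶ Y) (j : 𝒰.I₀) (l : T ⟶ 𝒰.X j) (hl : l ≫ 𝒰.f j = x) :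
    GlueCond 𝒰 I x ↔ (I j).comap l = ⊥ := by
  constructor
  · intro h
    have hs : (pullback.lift (𝟙 T) l (by simp [hl]) : T ⟶ pullback x (𝒰.f j)) ≫ pullback.snd x (𝒰.f j) = l :=
      pullback.lift_snd _ _ _
    rw [← hs, Scheme.IdealSheafData.comap_comp, h j, Scheme.IdealSheafData.comap_bot]
  · intro h i
    rw [hI i j _ (pullback.snd x (𝒰.f i)) (pullback.fst x (𝒰.f i) ≫ l)
      (by rw [Category.assoc, hl, pullback.condition]), Scheme.IdealSheafData.comap_comp, h,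
      Scheme.IdealSheafData.comap_bot]

theorem isGood_glueCond {Y : Scheme.{u}} (𝒰 : Y.OpenCover) (I : ∀ i, (𝒰.X i).IdealSheafData) :
    GrpScheme.ClosedRep.IsGood (GlueCond 𝒰 I) where
  comp {T T'} g x h i := by
    have e : pullback.map (g ≫ x) (𝒰.f i) x (𝒰.f i) g (𝟙 _) (𝟙 _) (by simp) (by simp) ≫ pullback.snd x (𝒰.f i) =
        pullback.snd (g ≫ x) (𝒰.f i) := by simp [pullback.map, pullback.lift_snd]
    rw [← e, Scheme.IdealSheafData.comap_comp, h i, Scheme.IdealSheafData.comap_bot]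
  glue {T} 𝒱 x h i := by
    refine eq_bot_of_openCover (Scheme.Pullback.openCoverOfLeft 𝒱 x (𝒰.f i)) _ fun k => ?_
    rw [← Scheme.IdealSheafData.comap_comp]
    have e : (Scheme.Pullback.openCoverOfLeft 𝒱 x (𝒰.f i)).f k ≫ pullback.snd x (𝒰.f i) =
        pullback.snd (𝒱.f k ≫ x) (𝒰.f i) := by
      rw [Scheme.Pullback.openCoverOfLeft_f]
      exact (pullback.lift_snd _ _ _).trans (Category.comp_id _)
    rw [e]
    exact h k i

/-- Compatible closed subschemes glue. -/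
theorem exists_glue {Y : Scheme.{u}} (𝒰 : Y.OpenCover) (I : ∀ i, (𝒰.X i).IdealSheafData)
    (hI : ∀ (i j : 𝒰.I₀) (P : Scheme.{u}) (a : P ⟶ 𝒰.X i) (b : P ⟶ 𝒰.X j),
      a ≫ 𝒰.f i = b ≫ 𝒰.f j → (I i).comap a = (I j).comap b) :
    ∃ J : Y.IdealSheafData, ∀ i, J.comap (𝒰.f i) = I i := by
  obtain ⟨Z, z, hz, hiff⟩ := GrpScheme.ClosedRep.exists_closed (isGood_glueCond 𝒰 I) fun U x hx => by
    obtain ⟨y, hy⟩ := 𝒰.covers x
    obtain ⟨g, hg, hxg⟩ := U.2.exists_basicOpen_le (V := (𝒰.f (𝒰.idx x)).opensRange) ⟨x, ⟨y, hy⟩⟩ hx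
    refine ⟨g, hxg, ?_⟩
    let j := 𝒰.idx x
    let D := Y.affineBasicOpen g
    have hDj : D.1 ≤ (𝒰.f j).opensRange := hg
    have hV : IsAffineOpen ((𝒰.f j) ⁻¹ᵁ D.1) := D.2.preimage_of_isOpenImmersion _ hDj
    refine ⟨((I j).ideal ⟨_, hV⟩).comap ((𝒰.f j).app D.1).hom, fun C φ => ?_⟩
    show GlueCond 𝒰 I (Spec.map φ ≫ D.2.fromSpec) ↔ _
    let w := Spec.map φ ≫ D.2.fromSpec
    have hwD : (⊤ : (Spec C).Opens) ≤ w ⁻¹ᵁ D.1 := fun t _ => by
      show w t ∈ D.1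
      rw [Scheme.Hom.comp_apply]
      have : D.2.fromSpec (Spec.map φ t) ∈ Set.range D.2.fromSpec := ⟨_, rfl⟩
      rwa [D.2.range_fromSpec] at this
    have hr : Set.range w ⊆ Set.range (𝒰.f j) := by
      rintro _ ⟨t, rfl⟩
      exact hDj (hwD (show t ∈ (⊤ : (Spec C).Opens) from trivial))
    let l := IsOpenImmersion.lift (𝒰.f j) w hr
    have hl : l ≫ 𝒰.f j = w := IsOpenImmersion.lift_fac _ _ _
    have hlV : (⊤ : (Spec C).Opens) ≤ l ⁻¹ᵁ ((𝒰.f j) ⁻¹ᵁ D.1) := by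
      rw [← Scheme.Hom.comp_preimage, hl]; exact hwD
    rw [glueCond_of_lift 𝒰 I hI _ j l hl, ideal_top_eq_bot_iff,
      IdealSh.Comap.ideal_comap (I j) l ⟨_, hV⟩ ⟨⊤, isAffineOpen_top _⟩ hlV, Ideal.map_eq_bot_iff_le_ker]
    have hcomp : (𝒰.f j).app D.1 ≫ l.appLE ((𝒰.f j) ⁻¹ᵁ D.1) ⊤ hlV = φ ≫ (Scheme.ΓSpecIso C).inv := by
      rw [Scheme.Hom.app_eq_appLE, Scheme.Hom.appLE_comp_appLE]
      simp only [hl]
      have hU' : (⊤ : (Spec Γ(Y, D.1)).Opens) ≤ D.2.fromSpec ⁻¹ᵁ D.1 := by rw [D.2.fromSpec_preimage_self]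
      rw [show w.appLE D.1 ⊤ hwD = D.2.fromSpec.appLE D.1 ⊤ hU' ≫ (Spec.map φ).appLE ⊤ ⊤ le_rfl from
          (Scheme.Hom.appLE_comp_appLE (Spec.map φ) D.2.fromSpec D.1 ⊤ ⊤ hU' le_rfl).symm,
        show (Spec.map φ).appLE ⊤ ⊤ le_rfl = (Spec.map φ).appTop from (Spec.map φ).app_eq_appLE.symm,
        show D.2.fromSpec.appLE D.1 ⊤ hU' = (Scheme.ΓSpecIso Γ(Y, D.1)).inv by
          rw [Scheme.Hom.appLE, D.2.fromSpec_app_self, Category.assoc, ← Functor.map_comp]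
          rw [Subsingleton.elim (α := Opposite.op (⊤ : (Spec Γ(Y, D.1)).Opens) ⟶ Opposite.op (⊤ : (Spec Γ(Y, D.1)).Opens)) (_ ≫ _) (𝟙 _), CategoryTheory.Functor.map_id, Category.comp_id]]
      exact (Scheme.ΓSpecIso_inv_naturality φ).symm
    have hbij : Function.Bijective ((𝒰.f j).app D.1).hom := by
      haveI := (𝒰.f j).isIso_app D.1 hDj
      exact ConcreteCategory.bijective_of_isIso _
    have hker : RingHom.ker φ.hom = RingHom.ker (φ ≫ (Scheme.ΓSpecIso C).inv).hom :=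
      (RingHom.ker_comp_of_injective _ (ConcreteCategory.bijective_of_isIso (Scheme.ΓSpecIso C).inv).1).symm
    rw [hker, ← hcomp, CommRingCat.hom_comp, ← RingHom.comap_ker]
    exact ⟨fun h => Ideal.comap_mono h, fun h a ha => by
      obtain ⟨b, rfl⟩ := hbij.2 a
      exact h ha⟩
  haveI : IsClosedImmersion z := hz
  refine ⟨z.ker, fun i => le_antisymm ?_ ?_⟩
  · have hsub : GlueCond 𝒰 I ((I i).subschemeι ≫ 𝒰.f i) :=
      (glueCond_of_lift 𝒰 I hI _ i (I i).subschemeι rfl).mpr ((le_iff_comap_subschemeι (I i) (I i)).mp le_rfl)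
    obtain ⟨t, ht⟩ := (hiff _ _).mp hsub
    rw [← Scheme.IdealSheafData.le_map_iff_comap_le]
    show z.ker ≤ ((I i).subschemeι ≫ 𝒰.f i).ker
    rw [← ht]
    exact Scheme.Hom.le_ker_comp _ _
  · have hz' : GlueCond 𝒰 I z := (hiff _ _).mpr ⟨𝟙 Z, Category.id_comp z⟩
    rw [← Scheme.IdealSheafData.ker_fst_of_isClosedImmersion]
    have e : pullback.fst (𝒰.f i) z = (pullbackSymmetry _ _).hom ≫ pullback.snd z (𝒰.f i) := by simp
    rw [e, Scheme.Hom.ker_comp_of_isIso, ← Scheme.IdealSheafData.map_bot, Scheme.IdealSheafData.le_map_iff_comap_le, hz' i]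

end Groth.Agent.HilbD
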