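import Groth.Agent.HilbD.Glue
import Mathlib.AlgebraicGeometry.Sites.Representability

/-!
# Representability of the Hilbert functor of points from an open cover by representable subfunctors
-/

set_option autoImplicit false
set_option backward.isDefEq.respectTransparency.types false

universe u

open CategoryTheory CategoryTheory.Limits AlgebraicGeometry Opposite

noncomputable section

namespace Groth.Agent.HilbD

variable {X S : Scheme.{u}} (f : X ⟶ S) (d : ℕ)

/-- An object of the Hilbert functor together with the structure map. -/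
structure Pt (T : Scheme.{u}) : Type u where
  str : T ⟶ S
  Z : _root_.HilbD.Obj f d (Over.mk str)

variable {f d}

/-- A point with values in an `S`-scheme. -/
abbrev Pt.of {T : Over S} (Z : _root_.HilbD.Obj f d T) : Pt f d T.left := ⟨T.hom, Z⟩

/-- Functoriality. -/
def Pt.map {T T' : Scheme.{u}} (a : T' ⟶ T) (p : Pt f d T) : Pt f d T' :=
  ⟨a ≫ p.str, pullObj f d (Over.homMk a rfl : Over.mk (a ≫ p.str) ⟶ Over.mk p.str) p.Z⟩

theorem Pt.ext' {T : Scheme.{u}} {p q : Pt f d T} (h : p.str = q.str)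
    (hZ : _root_.HilbD.pull f (Over.homMk (𝟙 T) (by simp [h]) : Over.mk p.str ⟶ Over.mk q.str) q.Z.1 = p.Z.1) :
    p = q := by
  obtain ⟨s, Z⟩ := p
  obtain ⟨s', Z'⟩ := q
  obtain rfl : s = s' := h
  rw [show (Over.homMk (𝟙 T) (by simp) : Over.mk s ⟶ Over.mk s) = 𝟙 _ from Over.OverMorphism.ext rfl,
    pull_id] at hZ
  obtain rfl : Z' = Z := Subtype.ext hZ
  rfl

/-- Comparison of points in terms of pullback. -/
theorem Pt.map_eq_iff {T T' : Over S} (a : T' ⟶ T) (Z : _root_.HilbD.Obj f d T) (Z' : _root_.HilbD.Obj f d T') :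
    Pt.map a.left (Pt.of Z) = Pt.of Z' ↔ _root_.HilbD.pull f a Z.1 = Z'.1 := by
  constructor
  · intro h
    have key : ∀ (p : Pt f d T'.left) (hs : T'.hom = p.str), p = Pt.of Z' →
        _root_.HilbD.pull f (Over.homMk (𝟙 _) (by simp [← hs]) : T' ⟶ Over.mk p.str) p.Z.1 = Z'.1 := by
      rintro p hs rfl
      exact (congrArg (fun m : T' ⟶ T' => _root_.HilbD.pull f m Z'.1)
        (Over.OverMorphism.ext rfl : (Over.homMk (𝟙 _) (by simp) : T' ⟶ T') = 𝟙 T')).trans (pull_id f _)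
    refine Eq.trans ?_ (key _ (Over.w a).symm h)
    show _ = _root_.HilbD.pull f _ (_root_.HilbD.pull f _ Z.1)
    rw [← pull_comp]
    refine congrArg (fun m : T' ⟶ T => _root_.HilbD.pull f m Z.1) (Over.OverMorphism.ext ?_)
    exact (Category.id_comp _).symm
  · intro h
    refine Pt.ext' (Over.w a) ?_
    show _root_.HilbD.pull f _ Z'.1 = _root_.HilbD.pull f _ Z.1
    rw [← h, ← pull_comp]
    refine congrArg (fun m : _ ⟶ T => _root_.HilbD.pull f m Z.1) (Over.OverMorphism.ext ?_)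
    exact Category.id_comp _

theorem Pt.map_id {T : Scheme.{u}} (p : Pt f d T) : Pt.map (𝟙 T) p = p :=
  (Pt.map_eq_iff (T := Over.mk p.str) (T' := Over.mk p.str) (𝟙 _) p.Z p.Z).mpr (pull_id f _)

theorem Pt.map_comp {T T' T'' : Scheme.{u}} (a : T' ⟶ T) (b : T'' ⟶ T') (p : Pt f d T) :
    Pt.map (b ≫ a) p = Pt.map b (Pt.map a p) := by
  refine Pt.ext' (Category.assoc b a p.str) ?_
  show _root_.HilbD.pull f _ (_root_.HilbD.pull f _ (_root_.HilbD.pull f _ p.Z.1)) = _root_.HilbD.pull f _ p.Z.1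
  rw [← pull_comp, ← pull_comp]
  refine congrArg (fun m : _ ⟶ Over.mk p.str => _root_.HilbD.pull f m p.Z.1) (Over.OverMorphism.ext ?_)
  show (𝟙 T'' ≫ b) ≫ a = b ≫ a
  rw [Category.id_comp]

variable (f d)

/-- The Hilbert functor on all schemes. -/
def presheaf : Scheme.{u}ᵒᵖ ⥤ Type u where
  obj T := Pt f d T.unop
  map a := ↾ (Pt.map a.unop)
  map_id T := by ext p; exact Pt.map_id p
  map_comp a b := by ext p; exact Pt.map_comp a.unop b.unop p

theorem isSheaf_presheaf : Presheaf.IsSheaf Scheme.zariskiTopology (presheaf f d) := by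
  rw [isSheaf_iff_isSheaf_of_type, Scheme.zariskiTopology_eq, Presieve.isSheaf_pretopology]
  intro T R hR
  obtain ⟨(𝒰 : T.OpenCover), rfl⟩ := Scheme.exists_cover_of_mem_pretopology hR
  rw [Presieve.isSheafFor_arrows_iff]
  intro p hp
  have hp' : ∀ (i j : 𝒰.I₀) (P : Scheme.{u}) (a : P ⟶ 𝒰.X i) (b : P ⟶ 𝒰.X j),
      a ≫ 𝒰.f i = b ≫ 𝒰.f j → Pt.map a (p i) = Pt.map b (p j) := fun i j P a b h => hp i j P a b h
  let str : T ⟶ S := 𝒰.glueMorphisms (fun i => (p i).str) fun i j =>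
    congrArg Pt.str (hp' i j _ _ _ pullback.condition)
  have hstr : ∀ i, 𝒰.f i ≫ str = (p i).str := fun i => 𝒰.ι_glueMorphisms _ _ i
  let T₀ : Over S := Over.mk str
  let e : ∀ i, Over.mk (p i).str ⟶ T₀ := fun i => Over.homMk (𝒰.f i) (hstr i)
  let Y := PicF.XT f T₀
  let 𝒱 : Y.OpenCover := (𝒰.pullback₁ (PicF.XTproj f T₀))
  have hiso : ∀ i, ∃ (ψ : PicF.XT f (Over.mk (p i).str) ≅ 𝒱.X i), ψ.hom ≫ 𝒱.f i = PicF.XTmap f (e i) :=
    fun i => ⟨(isPullback_XTmap f (e i)).isoPullback, (isPullback_XTmap f (e i)).isoPullback_hom_fst⟩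
  choose ψ hψ using hiso
  have hψ' : ∀ i, (ψ i).inv ≫ PicF.XTmap f (e i) = 𝒱.f i := fun i => by rw [← hψ i, Iso.inv_hom_id_assoc]
  obtain ⟨J, hJ⟩ := exists_glue 𝒱 (fun i => (p i).Z.1.comap (ψ i).inv) fun i j P a b hab => by
    rw [← Scheme.IdealSheafData.comap_comp, ← Scheme.IdealSheafData.comap_comp]
    -- the points of `P`
    let a' := a ≫ (ψ i).inv
    let b' := b ≫ (ψ j).inv
    have hab' : a' ≫ PicF.XTmap f (e i) = b' ≫ PicF.XTmap f (e j) := by
      rw [Category.assoc, Category.assoc, hψ', hψ', hab]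
    let a₀ := a' ≫ PicF.XTproj f (Over.mk (p i).str)
    let b₀ := b' ≫ PicF.XTproj f (Over.mk (p j).str)
    have h0 : a₀ ≫ 𝒰.f i = b₀ ≫ 𝒰.f j := by
      have := congrArg (· ≫ PicF.XTproj f T₀) hab'
      simp only [Category.assoc, XTmap_proj] at this
      simp only [a₀, b₀, Category.assoc]
      exact this
    let Tc : Over S := Over.mk (a₀ ≫ (p i).str)
    let α : Tc ⟶ Over.mk (p i).str := Over.homMk a₀ rfl
    let β : Tc ⟶ Over.mk (p j).str := Over.homMk b₀ (congrArg Pt.str (hp' i j _ _ _ h0)).symm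
    have hpull : _root_.HilbD.pull f β (p j).Z.1 = _root_.HilbD.pull f α (p i).Z.1 :=
      (Pt.map_eq_iff β (p j).Z (pullObj f d α (p i).Z)).mp (hp' i j _ _ _ h0).symm
    have hs : a' ≫ pullback.fst f (Over.mk (p i).str).hom ≫ f = a₀ ≫ (p i).str := by
      rw [pullback.condition]
      exact (Category.assoc a' _ _).symm
    let c : P ⟶ PicF.XT f Tc := pullback.lift (a' ≫ pullback.fst f (Over.mk (p i).str).hom) (𝟙 P)
      (by rw [Category.id_comp]; exact (Category.assoc _ _ _).trans hs)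
    have hca : c ≫ PicF.XTmap f α = a' := by
      apply pullback.hom_ext
      · rw [Category.assoc, XTmap_fst, pullback.lift_fst]
      · show (c ≫ PicF.XTmap f α) ≫ PicF.XTproj f _ = a' ≫ PicF.XTproj f _
        rw [Category.assoc, XTmap_proj, ← Category.assoc,
          show c ≫ PicF.XTproj f Tc = 𝟙 P from pullback.lift_snd _ _ _]
        exact Category.id_comp _
    have hcb : c ≫ PicF.XTmap f β = b' := by
      apply pullback.hom_ext
      · rw [Category.assoc, XTmap_fst, pullback.lift_fst]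
        have := congrArg (· ≫ pullback.fst f T₀.hom) hab'
        simpa only [Category.assoc, XTmap_fst] using this
      · show (c ≫ PicF.XTmap f β) ≫ PicF.XTproj f _ = b' ≫ PicF.XTproj f _
        rw [Category.assoc, XTmap_proj, ← Category.assoc,
          show c ≫ PicF.XTproj f Tc = 𝟙 P from pullback.lift_snd _ _ _]
        exact Category.id_comp _
    show (p i).Z.1.comap a' = (p j).Z.1.comap b'
    rw [← hca, ← hcb, Scheme.IdealSheafData.comap_comp, Scheme.IdealSheafData.comap_comp, ← pull_eq_comap,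
      ← pull_eq_comap, hpull]
  have hJ' : ∀ i, _root_.HilbD.pull f (e i) J = (p i).Z.1 := fun i => by
    rw [pull_eq_comap, ← hψ i, Scheme.IdealSheafData.comap_comp, hJ i, ← Scheme.IdealSheafData.comap_comp,
      Iso.hom_inv_id, Scheme.IdealSheafData.comap_id]
  have hJfl : Mor2.IsFinLocFreeOfDeg d (J.subschemeι ≫ PicF.XTproj f T₀) := by
    have hall : ∀ i, ∃ (W : Scheme.{u}) (a : W ⟶ J.subscheme) (q : W ⟶ 𝒰.X i),
        IsPullback a q (J.subschemeι ≫ PicF.XTproj f T₀) (𝒰.f i) ∧ Mor2.IsFinLocFreeOfDeg d q := fun i => by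
      obtain ⟨ψ', -, hsq⟩ := exists_isPullback_pull f (e i) J
      refine ⟨_, ψ', _, hsq, ?_⟩
      have := (p i).Z.2
      rw [← hJ' i] at this
      exact this
    choose W a q hsq hq using hall
    have hloc : ∀ (P : MorphismProperty Scheme.{u}) [IsZariskiLocalAtTarget P], (∀ i, P (q i)) →
        P (J.subschemeι ≫ PicF.XTproj f T₀) := by
      intro P _ h
      refine (IsZariskiLocalAtTarget.iff_of_openCover (P := P) 𝒰).mpr fun i => ?_
      have : P ((hsq i).isoPullback.hom ≫ pullback.snd (J.subschemeι ≫ PicF.XTproj f T₀) (𝒰.f i)) := by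
        rw [(hsq i).isoPullback_hom_snd]; exact h i
      exact (MorphismProperty.cancel_left_of_respectsIso P _ _).mp this
    haveI hfin := hloc @IsFinite fun i => (hq i).1.1
    haveI hflat := hloc @Flat fun i => (hq i).1.2.1
    refine ⟨⟨hfin, hflat, hloc @LocallyOfFinitePresentation fun i => (hq i).1.2.2⟩, fun y => ?_⟩
    obtain ⟨y', hy⟩ := 𝒰.covers y
    have := (Scheme.Hom.finrank_of_isPullback _ _ _ _ (hsq _) y').symm.trans ((hq _).2 y')
    rwa [hy] at this
  refine ⟨⟨str, ⟨J, hJfl⟩⟩, fun i => ?_, ?_⟩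
  · exact (Pt.map_eq_iff (e i) (⟨J, hJfl⟩ : _root_.HilbD.Obj f d T₀) (p i).Z).mpr (hJ' i)
  · intro q hq
    obtain ⟨s', K⟩ := q
    obtain rfl : s' = str := 𝒰.hom_ext _ _ fun i => (congrArg Pt.str (hq i)).trans (hstr i).symm
    have hK : ∀ i, _root_.HilbD.pull f (e i) K.1 = (p i).Z.1 := fun i =>
      (Pt.map_eq_iff (e i) K (p i).Z).mp (hq i)
    congr 1
    refine Subtype.ext (eq_of_openCover 𝒱 fun i => ?_)
    rw [← hψ' i, Scheme.IdealSheafData.comap_comp, Scheme.IdealSheafData.comap_comp, ← pull_eq_comap,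
      ← pull_eq_comap, hK i]
    exact congrArg (fun K' => Scheme.IdealSheafData.comap K' (ψ i).inv) (hJ' i).symm

/-- The Hilbert functor as a Zariski sheaf. -/
def sheaf : Sheaf Scheme.zariskiTopology.{u} (Type u) := ⟨presheaf f d, isSheaf_presheaf f d⟩

theorem isPullback_subfunctor {H : Over S} (Z : _root_.HilbD.Obj f d H)
    (hmono : ∀ (T : Over S) (a b : T ⟶ H), _root_.HilbD.pull f a Z.1 = _root_.HilbD.pull f b Z.1 → a = b)
    {T : Scheme.{u}} (w : Pt f d T) (U : T.Opens)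
    (hU : ∀ (T' : Over S) (a : T' ⟶ Over.mk w.str),
      (∃ b : T' ⟶ H, _root_.HilbD.pull f b Z.1 = _root_.HilbD.pull f a w.Z.1) ↔ Set.range a.left ⊆ (U : Set T))
    (b : Over.mk (U.ι ≫ w.str) ⟶ H) (hb' : Pt.map b.left (Pt.of Z) = Pt.map U.ι w) :
    IsPullback (yoneda.map b.left) (yoneda.map U.ι)
      (yonedaEquiv.symm (Pt.of Z : Pt f d H.left) : yoneda.obj H.left ⟶ presheaf f d)
      (yonedaEquiv.symm w : yoneda.obj T ⟶ presheaf f d) := by
  let φ : yoneda.obj H.left ⟶ presheaf f d := yonedaEquiv.symm (Pt.of Z : Pt f d H.left)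
  let ψ : yoneda.obj T ⟶ presheaf f d := yonedaEquiv.symm w
  have hcone : ∀ (c : PullbackCone φ ψ) (V : Scheme.{u}ᵒᵖ) (z : c.pt.obj V),
      Pt.map (c.fst.app V z : V.unop ⟶ H.left) (Pt.of Z) = Pt.map (c.snd.app V z : V.unop ⟶ T) w :=
    fun c V z => ConcreteCategory.congr_hom (NatTrans.congr_app c.condition V) z
  have hrange : ∀ (c : PullbackCone φ ψ) (V : Scheme.{u}ᵒᵖ) (z : c.pt.obj V),
      Set.range (⇑(show V.unop ⟶ T from c.snd.app V z) : V.unop → T) ⊆ Set.range U.ι := fun c V z => by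
    rw [Scheme.Opens.range_ι]
    let a : Over.mk ((c.snd.app V z : V.unop ⟶ T) ≫ w.str) ⟶ Over.mk w.str := Over.homMk (c.snd.app V z) rfl
    let b' : Over.mk ((c.snd.app V z : V.unop ⟶ T) ≫ w.str) ⟶ H :=
      Over.homMk (c.fst.app V z) (congrArg Pt.str (hcone c V z))
    exact (hU _ a).mp ⟨b', (Pt.map_eq_iff b' Z (pullObj f d a w.Z)).mp (hcone c V z)⟩
  refine ⟨⟨?_⟩, ⟨PullbackCone.IsLimit.mk _
    (fun c =>
      { app := fun V => ↾ fun z => IsOpenImmersion.lift U.ι (c.snd.app V z) (hrange c V z)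
        naturality := fun V V' m => ?_ }) ?_ ?_ ?_⟩⟩
  · apply yonedaEquiv.injective
    show Pt.map (𝟙 _ ≫ b.left) (Pt.of Z) = Pt.map (𝟙 _ ≫ U.ι) w
    rw [Category.id_comp, Category.id_comp, hb']
  · ext z
    refine (cancel_mono U.ι).mp ?_
    show IsOpenImmersion.lift U.ι _ _ ≫ U.ι = (m.unop ≫ IsOpenImmersion.lift U.ι _ _) ≫ U.ι
    rw [IsOpenImmersion.lift_fac, Category.assoc, IsOpenImmersion.lift_fac]
    exact ConcreteCategory.congr_hom (c.snd.naturality m) z
  · intro c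
    ext V z
    -- the first projection is determined by uniqueness
    let l : V.unop ⟶ U.toScheme := IsOpenImmersion.lift U.ι (c.snd.app V z) (hrange c V z)
    show l ≫ b.left = c.fst.app V z
    have hl : l ≫ U.ι = c.snd.app V z := IsOpenImmersion.lift_fac _ _ _
    have hw : Pt.map (l ≫ b.left) (Pt.of Z) = Pt.map (c.snd.app V z : V.unop ⟶ T) w := by
      rw [Pt.map_comp, hb', ← Pt.map_comp, hl]
    let a : Over.mk ((c.snd.app V z : V.unop ⟶ T) ≫ w.str) ⟶ Over.mk w.str := Over.homMk (c.snd.app V z) rfl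
    let b₁ : Over.mk ((c.snd.app V z : V.unop ⟶ T) ≫ w.str) ⟶ H := Over.homMk (l ≫ b.left) (congrArg Pt.str hw)
    let b₂ : Over.mk ((c.snd.app V z : V.unop ⟶ T) ≫ w.str) ⟶ H :=
      Over.homMk (c.fst.app V z) (congrArg Pt.str (hcone c V z))
    exact congrArg CommaMorphism.left (hmono _ b₁ b₂
      (((Pt.map_eq_iff b₁ Z (pullObj f d a w.Z)).mp hw).trans
        ((Pt.map_eq_iff b₂ Z (pullObj f d a w.Z)).mp (hcone c V z)).symm))
  · intro c
    ext V z
    exact IsOpenImmersion.lift_fac _ _ _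
  · intro c m _ h₂
    ext V z
    refine (cancel_mono U.ι).mp ?_
    show m.app V z ≫ U.ι = IsOpenImmersion.lift U.ι _ _ ≫ U.ι
    rw [IsOpenImmersion.lift_fac]
    exact ConcreteCategory.congr_hom (NatTrans.congr_app h₂ V) z

/-- The Hilbert functor is representable as soon as it has an open cover by representable subfunctors. -/
theorem representable_of_openCover {ι : Type u} (H : ι → Over S) (Z : ∀ i, _root_.HilbD.Obj f d (H i))
    (hmono : ∀ i (T : Over S) (a b : T ⟶ H i),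
      _root_.HilbD.pull f a (Z i).1 = _root_.HilbD.pull f b (Z i).1 → a = b)
    (hloc : ∀ i (T : Over S) (W : _root_.HilbD.Obj f d T), ∃ U : T.left.Opens, ∀ (T' : Over S) (a : T' ⟶ T),
      (∃ b : T' ⟶ H i, _root_.HilbD.pull f b (Z i).1 = _root_.HilbD.pull f a W.1) ↔ Set.range a.left ⊆ U)
    (hcov : ∀ (T : Over S) (W : _root_.HilbD.Obj f d T) (t : T.left), ∃ (i : ι) (T' : Over S) (a : T' ⟶ T),
      IsOpenImmersion a.left ∧ t ∈ Set.range a.left ∧
        ∃ b : T' ⟶ H i, _root_.HilbD.pull f b (Z i).1 = _root_.HilbD.pull f a W.1) :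
    _root_.HilbD.Representable f d := by
  let F := sheaf f d
  let φ : ∀ i, yoneda.obj (H i).left ⟶ F.1 := fun i => yonedaEquiv.symm (Pt.of (Z i) : Pt f d (H i).left)
  have hφ : ∀ i (T : Scheme.{u}) (a : T ⟶ (H i).left), (φ i).app (op T) a = Pt.map a (Pt.of (Z i)) :=
    fun i T a => rfl
  have hrep : ∀ i, IsOpenImmersion.presheaf (φ i) := by
    intro i
    refine MorphismProperty.relative.of_exists fun T g => ?_
    obtain ⟨⟨s, W⟩, rfl⟩ : ∃ w : Pt f d T, g = yonedaEquiv.symm w :=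
      ⟨yonedaEquiv g, (yonedaEquiv.symm_apply_apply g).symm⟩
    obtain ⟨U, hU⟩ := hloc i (Over.mk s) W
    obtain ⟨b, hb⟩ := (hU (Over.mk (U.ι ≫ s)) (Over.homMk U.ι rfl)).mpr (Scheme.Opens.range_ι U).le
    have hb' : Pt.map b.left (Pt.of (Z i)) = Pt.map U.ι ⟨s, W⟩ :=
      (Pt.map_eq_iff b (Z i) (pullObj f d (Over.homMk U.ι rfl : Over.mk (U.ι ≫ s) ⟶ Over.mk s) W)).mpr hb
    exact ⟨U.toScheme, yoneda.map b.left, U.ι, isPullback_subfunctor f d (Z i) (hmono i) ⟨s, W⟩ U hU b hb', inferInstance⟩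
  have happ : ∀ (V : Scheme.{u}) (i : ι) (b : V ⟶ (H i).left),
      (Sigma.desc φ).app (op V) ((Sigma.ι (fun i => yoneda.obj (H i).left) i).app (op V) b) =
        Pt.map b (Pt.of (Z i)) := fun V i b =>
    ConcreteCategory.congr_hom (NatTrans.congr_app (Sigma.ι_desc φ i) (op V)) b
  haveI : Presheaf.IsLocallySurjective Scheme.zariskiTopology (Sigma.desc φ) := by
    refine ⟨fun {T} p => ?_⟩
    obtain ⟨s, W⟩ := (p : Pt f d T)
    have hsurj : ∀ (V : Scheme.{u}) (v : V ⟶ T) (i : ι) (b : V ⟶ (H i).left),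
        Pt.map b (Pt.of (Z i)) = Pt.map v (⟨s, W⟩ : Pt f d T) →
          (Presheaf.imageSieve (Sigma.desc φ) (⟨s, W⟩ : Pt f d T)).arrows v := fun V v i b h =>
      ⟨(Sigma.ι (fun i => yoneda.obj (H i).left) i).app (op V) b, (happ V i b).trans h⟩
    choose i T' a ha hta b hb using hcov (Over.mk s) W
    let 𝒰 : T.OpenCover := Scheme.Cover.mkOfCovers T (fun t => (T' t).left) (fun t => (a t).left)
      (fun t => ⟨t, hta t⟩) ha
    refine GrothendieckTopology.superset_covering _ ?_ 𝒰.mem_grothendieckTopology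
    rw [Sieve.ofArrows, Sieve.generate_le_iff]
    rintro _ _ ⟨t⟩
    have h1 : Pt.map (b t).left (Pt.of (Z (i t))) = Pt.of (pullObj f d (a t) W) :=
      (Pt.map_eq_iff (b t) (Z (i t)) (pullObj f d (a t) W)).mpr (hb t)
    have h2 : Pt.map (a t).left (⟨s, W⟩ : Pt f d T) = Pt.of (pullObj f d (a t) W) :=
      (Pt.map_eq_iff (a t) W (pullObj f d (a t) W)).mpr rfl
    exact hsurj (T' t).left (a t).left (i t) (b t).left (h1.trans h2.symm)
  obtain ⟨Hs, ⟨r⟩⟩ := Scheme.LocalRepresentability.isRepresentable hrep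
  let p₀ : Pt f d Hs := r.homEquiv (𝟙 Hs)
  refine ⟨Over.mk p₀.str, p₀.Z, fun T W => ?_⟩
  have hp : ∀ a : T.left ⟶ Hs, r.homEquiv a = Pt.map a p₀ := fun a => by
    conv_lhs => rw [← Category.comp_id a]
    exact r.homEquiv_comp a (𝟙 Hs)
  let a := r.homEquiv.symm (Pt.of W)
  have ha : Pt.map a p₀ = Pt.of W := (hp a).symm.trans (r.homEquiv.apply_symm_apply _)
  let g₀ : T ⟶ Over.mk p₀.str := Over.homMk a (congrArg Pt.str ha)
  have h₀ : _root_.HilbD.pull f g₀ p₀.Z.1 = W.1 :=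
    (Pt.map_eq_iff (T := Over.mk p₀.str) g₀ p₀.Z W).mp ha
  refine ⟨g₀, h₀, fun g hg => ?_⟩
  have hg' : Pt.map g.left p₀ = Pt.of W := (Pt.map_eq_iff (T := Over.mk p₀.str) g p₀.Z W).mpr hg
  apply Over.OverMorphism.ext
  exact r.homEquiv.injective ((hp g.left).trans (hg'.trans (ha.symm.trans (hp a).symm)))

end Groth.Agent.HilbD
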