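import Groth.Agent.HilbD.Chart
import Groth.Agent.HilbD.Representable

/-!
# Representability of the Hilbert functor of points of an affine scheme over an affine scheme
-/

set_option autoImplicit false

universe u

open CategoryTheory CategoryTheory.Limits AlgebraicGeometry TensorProduct

noncomputable section

namespace Groth.Agent.HilbD

/-- A morphism of affine schemes whose sections are finite free of rank `d` is finite locally free of degree `d`. -/
theorem isFinLocFreeOfDeg_of_basis {A B : Scheme.{u}} [IsAffine A] [IsAffine B] (q : A ⟶ B) {d : ℕ}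
    (h : letI := q.appTop.hom.toAlgebra; Nonempty (Module.Basis (Fin d) Γ(B, ⊤) Γ(A, ⊤))) :
    Mor2.IsFinLocFreeOfDeg d q := by
  letI := q.appTop.hom.toAlgebra
  obtain ⟨b⟩ := h
  haveI : Module.Free Γ(B, ⊤) Γ(A, ⊤) := .of_basis b
  haveI : Module.Finite Γ(B, ⊤) Γ(A, ⊤) := .of_basis b
  haveI : Module.FinitePresentation Γ(B, ⊤) Γ(A, ⊤) := Module.finitePresentation_of_projective _ _
  haveI : Algebra.FinitePresentation Γ(B, ⊤) Γ(A, ⊤) := Algebra.FinitePresentation.of_finitePresentation _ _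
  have h1 : IsFinite (Spec.map q.appTop) := (IsFinite.SpecMap_iff _).mpr (by assumption : Module.Finite Γ(B, ⊤) Γ(A, ⊤))
  have h2 : Flat (Spec.map q.appTop) :=
    Flat.SpecMap_iff.mpr (inferInstance : Module.Flat Γ(B, ⊤) Γ(A, ⊤))
  have h3 : LocallyOfFinitePresentation (Spec.map q.appTop) :=
    (HasRingHomProperty.Spec_iff (P := @LocallyOfFinitePresentation)).mpr (by assumption : Algebra.FinitePresentation Γ(B, ⊤) Γ(A, ⊤))
  have e : q = (A.isoSpec.hom ≫ Spec.map q.appTop) ≫ B.isoSpec.inv := by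
    rw [Scheme.isoSpec_hom_naturality, Category.assoc, Iso.hom_inv_id, Category.comp_id]
  refine ⟨⟨?_, ?_, ?_⟩, fun y => ?_⟩
  · rw [e]; infer_instance
  · rw [e]; infer_instance
  · rw [e]; infer_instance
  · have sq : IsPullback (𝟙 A) q (A.isoSpec.hom ≫ Spec.map q.appTop) B.isoSpec.hom := by
      refine IsPullback.of_horiz_isIso ⟨?_⟩
      rw [Category.id_comp, Scheme.isoSpec_hom_naturality]
    rw [Scheme.Hom.finrank_of_isPullback _ _ _ _ sq y, Scheme.Hom.finrank_comp_left_of_isIso,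
      show Spec.map q.appTop = Spec.map (CommRingCat.ofHom (algebraMap Γ(B, ⊤) Γ(A, ⊤))) from rfl,
      Scheme.Hom.finrank_SpecMap_algebraMap]
    haveI : Nontrivial Γ(B, ⊤) := PrimeSpectrum.nontrivial (B.isoSpec.hom y)
    rw [Module.rankAtStalk_eq_finrank_of_free]
    show Module.finrank Γ(B, ⊤) Γ(A, ⊤) = d
    rw [Module.finrank_eq_card_basis b, Fintype.card_fin]

/-- The module of sections of a finite locally free family. -/
theorem module_of_isFinLocFreeOfDeg {A B : Scheme.{u}} [IsAffine A] [IsAffine B] (q : A ⟶ B) {d : ℕ}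
    (h : Mor2.IsFinLocFreeOfDeg d q) :
    letI := q.appTop.hom.toAlgebra
    Module.Finite Γ(B, ⊤) Γ(A, ⊤) ∧ Module.Projective Γ(B, ⊤) Γ(A, ⊤) ∧
      ∀ p : PrimeSpectrum Γ(B, ⊤), Module.rankAtStalk (R := Γ(B, ⊤)) Γ(A, ⊤) p = d := by
  letI := q.appTop.hom.toAlgebra
  obtain ⟨⟨h1, h2, h3⟩, h4⟩ := h
  haveI := h1; haveI := h2; haveI := h3
  haveI hf : Module.Finite Γ(B, ⊤) Γ(A, ⊤) := q.finite_appTop
  haveI hfl : Module.Flat Γ(B, ⊤) Γ(A, ⊤) := q.flat_appTop
  haveI : Algebra.FinitePresentation Γ(B, ⊤) Γ(A, ⊤) :=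
    (HasRingHomProperty.iff_of_isAffine (P := @LocallyOfFinitePresentation)).mp h3
  haveI : Module.FinitePresentation Γ(B, ⊤) Γ(A, ⊤) := .of_finite_of_finitePresentation _ _
  refine ⟨hf, Module.Flat.projective_of_finitePresentation, fun p => ?_⟩
  obtain ⟨y, rfl⟩ : ∃ y, B.isoSpec.hom y = p :=
    ⟨B.isoSpec.inv p, by rw [← Scheme.Hom.comp_apply, Iso.inv_hom_id]; rfl⟩
  have sq : IsPullback (𝟙 A) q (A.isoSpec.hom ≫ Spec.map q.appTop) B.isoSpec.hom := by
    refine IsPullback.of_horiz_isIso ⟨?_⟩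
    rw [Category.id_comp, Scheme.isoSpec_hom_naturality]
  haveI : IsFinite (Spec.map q.appTop) := (IsFinite.SpecMap_iff _).mpr q.finite_appTop
  haveI : Flat (Spec.map q.appTop) := Flat.SpecMap_iff.mpr q.flat_appTop
  rw [← h4 y, Scheme.Hom.finrank_of_isPullback _ _ _ _ sq y, Scheme.Hom.finrank_comp_left_of_isIso,
    show Spec.map q.appTop = Spec.map (CommRingCat.ofHom (algebraMap Γ(B, ⊤) Γ(A, ⊤))) from rfl,
    Scheme.Hom.finrank_SpecMap_algebraMap]

variable {X S : Scheme.{u}} (f : X ⟶ S) {d : ℕ}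

theorem good_of_surjective {T : Over S} [IsAffine T.left] {W : _root_.HilbD.Obj f d T} {m : Fin d → Γ(X, ⊤)}
    (h : Function.Surjective (chartMap f W m)) : Good f W m := by
  haveI := isAffine_subscheme f W
  letI : Algebra Γ(T.left, ⊤) Γ(W.1.subscheme, ⊤) := (qW f W).appTop.hom.toAlgebra
  obtain ⟨h1, h2, h3⟩ := module_of_isFinLocFreeOfDeg (qW f W) W.2
  have hlin : ⇑(Fintype.linearCombination Γ(T.left, ⊤) fun k => (xW f W).appTop.hom (m k)) = chartMap f W m :=
    funext fun c => by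
      simp only [Fintype.linearCombination_apply, chartMap, Algebra.smul_def]
      rfl
  have := bijective_of_surjective_of_rank h3 (fun k => (xW f W).appTop.hom (m k)) (by rw [hlin]; exact h)
  rwa [hlin] at this

theorem surjective_pull_iff {T T' : Over S} [IsAffine T.left] [IsAffine T'.left] (a : T' ⟶ T)
    (W : _root_.HilbD.Obj f d T) (m : Fin d → Γ(X, ⊤)) :
    letI := a.left.appTop.hom.toAlgebra
    letI := (qW f W).appTop.hom.toAlgebra
    Function.Surjective (chartMap f (pullObj f d a W) m) ↔ Function.Surjective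
      ((Fintype.linearCombination Γ(T.left, ⊤) fun k => (xW f W).appTop.hom (m k)).lTensor Γ(T'.left, ⊤)) := by
  haveI := isAffine_subscheme f W
  obtain ⟨ψ, hsq, hx⟩ := pull_square f a W
  letI : Algebra Γ(T.left, ⊤) Γ(T'.left, ⊤) := a.left.appTop.hom.toAlgebra
  letI : Algebra Γ(T.left, ⊤) Γ(W.1.subscheme, ⊤) := (qW f W).appTop.hom.toAlgebra
  letI : Algebra Γ(W.1.subscheme, ⊤) Γ((pullObj f d a W).1.subscheme, ⊤) := ψ.appTop.hom.toAlgebra
  letI : Algebra Γ(T'.left, ⊤) Γ((pullObj f d a W).1.subscheme, ⊤) := (qW f (pullObj f d a W)).appTop.hom.toAlgebra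
  letI : Algebra Γ(T.left, ⊤) Γ((pullObj f d a W).1.subscheme, ⊤) :=
    (a.left.appTop ≫ (qW f (pullObj f d a W)).appTop).hom.toAlgebra
  haveI : IsScalarTower Γ(T.left, ⊤) Γ(T'.left, ⊤) Γ((pullObj f d a W).1.subscheme, ⊤) :=
    IsScalarTower.of_algebraMap_eq fun _ => rfl
  have hw : (qW f W).appTop ≫ ψ.appTop = a.left.appTop ≫ (qW f (pullObj f d a W)).appTop := by
    rw [← Scheme.Hom.comp_appTop, ← Scheme.Hom.comp_appTop, hsq.w]
  haveI : IsScalarTower Γ(T.left, ⊤) Γ(W.1.subscheme, ⊤) Γ((pullObj f d a W).1.subscheme, ⊤) :=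
    IsScalarTower.of_algebraMap_eq fun r => (ConcreteCategory.congr_hom hw r).symm
  haveI : Algebra.IsPushout Γ(T.left, ⊤) Γ(T'.left, ⊤) Γ(W.1.subscheme, ⊤) Γ((pullObj f d a W).1.subscheme, ⊤) :=
    CommRingCat.isPushout_iff_isPushout.1 (isPushout_appTop_of_isPullback hsq).flip
  have hbc : IsBaseChange Γ(T'.left, ⊤)
      (IsScalarTower.toAlgHom Γ(T.left, ⊤) Γ(W.1.subscheme, ⊤) Γ((pullObj f d a W).1.subscheme, ⊤)).toLinearMap :=
    Algebra.IsPushout.out
  let π := Fintype.linearCombination Γ(T.left, ⊤) fun k => (xW f W).appTop.hom (m k)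
  let e := TensorProduct.piScalarRight Γ(T.left, ⊤) Γ(T'.left, ⊤) Γ(T'.left, ⊤) (Fin d)
  have key : ∀ z, chartMap f (pullObj f d a W) m (e z) = hbc.equiv (π.lTensor Γ(T'.left, ⊤) z) := by
    intro z
    induction z using TensorProduct.induction_on with
    | zero => simp [chartMap]
    | tmul x c =>
      rw [LinearMap.lTensor_tmul, IsBaseChange.equiv_tmul, Algebra.smul_def]
      show chartMap f (pullObj f d a W) m (e (x ⊗ₜ c)) = (qW f (pullObj f d a W)).appTop.hom x * ψ.appTop.hom (π c)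
      rw [show π c = chartMap f W m c by
          simp only [π, Fintype.linearCombination_apply, chartMap, Algebra.smul_def]; rfl,
        ← chartMap_pull f a W m hsq hx, chartMap, chartMap, Finset.mul_sum]
      refine Finset.sum_congr rfl fun k _ => ?_
      rw [← mul_assoc, ← map_mul]
      congr 2
      simp [e, Algebra.smul_def, mul_comm]
      rfl
    | add y z hy hz =>
      rw [map_add, map_add, map_add, ← hy, ← hz]
      simp [chartMap, add_mul, Finset.sum_add_distrib]
  constructor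
  · intro h z
    obtain ⟨c, hc⟩ := h (hbc.equiv z)
    refine ⟨e.symm c, hbc.equiv.injective ?_⟩
    rw [← key, e.apply_symm_apply, hc]
  · intro h p
    obtain ⟨z, hz⟩ := h (hbc.equiv.symm p)
    exact ⟨e z, by rw [key, hz, hbc.equiv.apply_symm_apply]⟩

/-- If a family is good after some base change it is good near the image. -/
theorem exists_good_nhd {T T' : Over S} [IsAffine T.left] [IsAffine T'.left] (a : T' ⟶ T)
    (W : _root_.HilbD.Obj f d T) {m : Fin d → Γ(X, ⊤)} (h : Good f (pullObj f d a W) m) (t' : T'.left) :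
    ∃ (V : Over S) (v : V ⟶ T), IsAffine V.left ∧ IsOpenImmersion v.left ∧ a.left t' ∈ Set.range v.left ∧
      Good f (pullObj f d v W) m := by
  haveI := isAffine_subscheme f W
  letI : Algebra Γ(T.left, ⊤) Γ(W.1.subscheme, ⊤) := (qW f W).appTop.hom.toAlgebra
  letI : Algebra Γ(T.left, ⊤) Γ(T'.left, ⊤) := a.left.appTop.hom.toAlgebra
  obtain ⟨hfin, -, -⟩ := module_of_isFinLocFreeOfDeg (qW f W) W.2
  obtain ⟨g, hg, hsurj⟩ := exists_surjective_of_baseChange (fun k => (xW f W).appTop.hom (m k))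
    Γ(T'.left, ⊤) (T'.left.isoSpec.hom t') ((surjective_pull_iff f a W m).mp h.2)
  let D := T.left.basicOpen g
  haveI hD : IsAffine D.toScheme := (isAffineOpen_top T.left).basicOpen g
  let V : Over S := Over.mk (D.ι ≫ T.hom)
  let v : V ⟶ T := Over.homMk D.ι rfl
  haveI : IsAffine V.left := hD
  refine ⟨V, v, hD, inferInstanceAs (IsOpenImmersion D.ι), ?_, ?_⟩
  · show a.left t' ∈ Set.range D.ι
    rw [Scheme.Opens.range_ι]
    have hnat : T.left.isoSpec.hom (a.left t') = (T'.left.isoSpec.hom t').comap a.left.appTop.hom := by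
      rw [← Scheme.Hom.comp_apply, ← Scheme.isoSpec_hom_naturality]
      rfl
    have hg' : T.left.isoSpec.hom (a.left t') ∈ PrimeSpectrum.basicOpen g := by
      rw [hnat]; exact hg
    show a.left t' ∈ T.left.basicOpen g
    rw [← Scheme.toSpecΓ_preimage_basicOpen]
    exact hg'
  · letI : Algebra Γ(T.left, ⊤) Γ(V.left, ⊤) := v.left.appTop.hom.toAlgebra
    refine good_of_surjective f ((surjective_pull_iff f v W m).mpr (hsurj _ ?_))
    show IsUnit (D.ι.appTop.hom g)
    have hb : D.toScheme.basicOpen (D.ι.appTop.hom g) = ⊤ := by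
      refine (Scheme.preimage_basicOpen D.ι g).symm.trans ?_
      exact D.ι_preimage_self
    haveI : IsAffine D.toScheme := hD
    rw [← Ideal.span_singleton_eq_top, ← (isAffineOpen_top D.toScheme).iSup_basicOpen_eq_self_iff]
    exact le_antisymm le_top (hb.ge.trans (le_iSup_of_le ⟨_, rfl⟩ le_rfl))

variable [IsAffine X] [IsAffine S]

/-- Coordinates define a good family. -/
theorem exists_of_isCoord {T : Over S} [IsAffine T.left] {m : Fin d → Γ(X, ⊤)}
    {L : Γ(X, ⊤) → Fin d → Γ(T.left, ⊤)}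
    (hL : letI := f.appTop.hom.toAlgebra; letI := T.hom.appTop.hom.toAlgebra; IsCoord Γ(S, ⊤) m L) :
    ∃ (W : _root_.HilbD.Obj f d T) (hG : Good f W m), chartL f hG = L := by
  letI := f.appTop.hom.toAlgebra
  letI := T.hom.appTop.hom.toAlgebra
  letI := (pullback.fst f T.hom).appTop.hom.toAlgebra
  letI := (PicF.XTproj f T).appTop.hom.toAlgebra
  letI := (T.hom.appTop ≫ (PicF.XTproj f T).appTop).hom.toAlgebra
  obtain ⟨_, _, hbc⟩ := isBaseChange_XT f T
  let Llin : Γ(X, ⊤) →ₗ[Γ(S, ⊤)] (Fin d → Γ(T.left, ⊤)) :=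
    { toFun := L
      map_add' := hL.map_add
      map_smul' := fun r b => by
        rw [hL.map_smul, RingHom.id_apply]
        exact (algebraMap_smul _ r (L b)) }
  let π := hbc.lift Llin
  let σP := (PicF.XTproj f T).appTop.hom
  let βP := (pullback.fst f T.hom).appTop.hom
  have hπ : ∀ a b, π (σP a * βP b) = a • L b := fun a b => by
    rw [show σP a * βP b = a • βP b from (Algebra.smul_def a _).symm, map_smul]
    exact congrArg (a • ·) (hbc.lift_eq Llin b)
  have hπm : ∀ c : Fin d → Γ(T.left, ⊤), π (∑ k, σP (c k) * βP (m k)) = c := fun c => by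
    rw [map_sum]
    simp only [hπ, hL.map_basis]
    ext i
    simp [Finset.sum_apply, Pi.single_apply]
  have hmul : ∀ p q, π (p * q) = fun k => ∑ i, ∑ j, π p i * π q j * L (m i * m j) k := by
    intro p
    induction p using mul_induction f T with
    | h0 => intro q; ext k; simp
    | hmul a b =>
      intro q
      induction q using mul_induction f T with
      | h0 => ext k; simp
      | hmul a' b' =>
        ext k
        have he : σP a * βP b * (σP a' * βP b') = σP (a * a') * βP (b * b') := by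
          rw [map_mul, map_mul]; ring
        change π (σP a * βP b * (σP a' * βP b')) k = ∑ i, ∑ j, π (σP a * βP b) i * π (σP a' * βP b') j * L (m i * m j) k
        rw [he, hπ, hπ, hπ, Pi.smul_apply, smul_eq_mul, hL.map_mul b b' k]
        simp only [Pi.smul_apply, smul_eq_mul, Finset.mul_sum]
        refine Finset.sum_congr rfl fun i _ => Finset.sum_congr rfl fun j _ => ?_
        ring
      | hadd x y hx hy =>
        ext k
        simp only [mul_add, map_add, hx, hy, Pi.add_apply, add_mul, mul_add, Finset.sum_add_distrib]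
    | hadd x y hx hy =>
      intro q
      ext k
      simp only [add_mul, map_add, hx, hy, Pi.add_apply, Finset.sum_add_distrib]
  let J : Ideal Γ(PicF.XT f T, ⊤) :=
    { carrier := {p | π p = 0}
      zero_mem' := map_zero π
      add_mem' := fun {p q} hp hq => by
        show π (p + q) = 0
        rw [map_add, show π p = 0 from hp, show π q = 0 from hq, add_zero]
      smul_mem' := fun c p hp => by
        show π (c * p) = 0
        rw [hmul]
        ext k
        simp [show π p = 0 from hp] }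
  haveI : IsAffine (PicF.XT f T) := IsAffine.of_isPullback (IsPullback.of_hasPullback f T.hom)
  let I : (PicF.XT f T).IdealSheafData := Scheme.IdealSheafData.ofIdealTop J
  haveI : IsAffine I.subscheme := isAffine_of_isAffineHom I.subschemeι
  let ρ := I.subschemeι.appTop.hom
  have hρs : Function.Surjective ρ := (IsClosedImmersion.isAffine_surjective_of_isAffine I.subschemeι).2
  have hρk : RingHom.ker ρ = J := by
    rw [← ideal_top_eq_ker]; simp [I]
  let q : I.subscheme ⟶ T.left := I.subschemeι ≫ PicF.XTproj f T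
  let Φ : (Fin d → Γ(T.left, ⊤)) → Γ(I.subscheme, ⊤) := fun c => ρ (∑ k, σP (c k) * βP (m k))
  have hΦb : Function.Bijective Φ := by
    refine ⟨fun c c' h => ?_, fun z => ?_⟩
    · have hd : (∑ k, σP (c k) * βP (m k)) - ∑ k, σP (c' k) * βP (m k) ∈ RingHom.ker ρ := by
        rw [RingHom.mem_ker, map_sub, sub_eq_zero]; exact h
      rw [hρk] at hd
      have : π _ = 0 := hd
      rwa [map_sub, hπm, hπm, sub_eq_zero] at this
    · obtain ⟨p, rfl⟩ := hρs z
      refine ⟨π p, ?_⟩
      have hd : (∑ k, σP (π p k) * βP (m k)) - p ∈ RingHom.ker ρ := by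
        rw [hρk]
        show π _ = 0
        rw [map_sub, hπm, sub_self]
      rwa [RingHom.mem_ker, map_sub, sub_eq_zero] at hd
  have hfl : Mor2.IsFinLocFreeOfDeg d q := by
    refine isFinLocFreeOfDeg_of_basis q ?_
    letI := q.appTop.hom.toAlgebra
    let Φl : (Fin d → Γ(T.left, ⊤)) →ₗ[Γ(T.left, ⊤)] Γ(I.subscheme, ⊤) :=
      Fintype.linearCombination Γ(T.left, ⊤) fun k => ρ (βP (m k))
    have hl : ⇑Φl = Φ := funext fun c => by
      simp only [Φl, Φ, Fintype.linearCombination_apply, map_sum, map_mul, Algebra.smul_def]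
      rfl
    exact ⟨Module.Basis.ofEquivFun (LinearEquiv.ofBijective Φl (by rw [hl]; exact hΦb)).symm⟩
  let W : _root_.HilbD.Obj f d T := ⟨I, hfl⟩
  have hG : Good f W m := by
    have : chartMap f W m = Φ := funext fun c => by
      simp only [chartMap, Φ, map_sum, map_mul]
      rfl
    show Function.Bijective (chartMap f W m)
    rw [this]; exact hΦb
  refine ⟨W, hG, funext fun b => hG.1 ?_⟩
  rw [chartMap_chartL]
  have hd : βP b - (∑ k, σP (L b k) * βP (m k)) ∈ RingHom.ker ρ := by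
    rw [hρk]
    show π _ = 0
    rw [map_sub, hπm, show βP b = σP 1 * βP b by rw [map_one, one_mul], hπ, one_smul, sub_self]
  rw [RingHom.mem_ker, map_sub, sub_eq_zero, map_sum] at hd
  simp only [map_mul] at hd
  exact hd

end Groth.Agent.HilbD

namespace Groth.Agent.HilbD

/-- Families agree if they agree on an open cover of the base. -/
theorem pull_cover_ext {X S : Scheme.{u}} (f : X ⟶ S) {T : Over S} (𝒰 : T.left.OpenCover)
    {I J : (PicF.XT f T).IdealSheafData}
    (h : ∀ i, _root_.HilbD.pull f (Over.homMk (𝒰.f i) rfl : Over.mk (𝒰.f i ≫ T.hom) ⟶ T) I =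
      _root_.HilbD.pull f (Over.homMk (𝒰.f i) rfl : Over.mk (𝒰.f i ≫ T.hom) ⟶ T) J) : I = J := by
  refine eq_of_openCover (𝒰.pullback₁ (PicF.XTproj f T)) fun i => ?_
  have hsq := isPullback_XTmap f (Over.homMk (𝒰.f i) rfl : Over.mk (𝒰.f i ≫ T.hom) ⟶ T)
  have he : (𝒰.pullback₁ (PicF.XTproj f T)).f i = hsq.isoPullback.inv ≫ PicF.XTmap f _ :=
    hsq.isoPullback_inv_fst.symm
  refine (congrArg I.comap he).trans (Eq.trans ?_ (congrArg J.comap he).symm)
  exact ((I.comap_comp _ _).trans (congrArg (fun K => Scheme.IdealSheafData.comap K hsq.isoPullback.inv)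
    ((pull_eq_comap f _ I).symm.trans ((h _).trans (pull_eq_comap f _ J))))).trans (J.comap_comp _ _).symm

variable {X S : Scheme.{u}} (f : X ⟶ S) {d : ℕ} [IsAffine X] [IsAffine S]

/-- The chart attached to `m`. -/
def chartOb (m : Fin d → Γ(X, ⊤)) : Over S :=
  letI := f.appTop.hom.toAlgebra
  Over.mk (Spec.map (CommRingCat.ofHom (algebraMap Γ(S, ⊤) (ChartRing Γ(S, ⊤) m))) ≫ S.isoSpec.inv)

instance (m : Fin d → Γ(X, ⊤)) : IsAffine (chartOb f m).left := by
  letI := f.appTop.hom.toAlgebra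
  exact inferInstanceAs (IsAffine (Spec (CommRingCat.of (ChartRing Γ(S, ⊤) m))))

theorem exists_universal_chart (m : Fin d → Γ(X, ⊤)) :
    ∃ (Z : _root_.HilbD.Obj f d (chartOb f m)), Good f Z m ∧
      ∀ (T : Over S), IsAffine T.left → ∀ W : _root_.HilbD.Obj f d T, Good f W m →
        ∃! b : T ⟶ chartOb f m, _root_.HilbD.pull f b Z.1 = W.1 := by
  letI := f.appTop.hom.toAlgebra
  let C := CommRingCat.of (ChartRing Γ(S, ⊤) m)
  let H := chartOb f m
  let ρ : C ⟶ Γ(H.left, ⊤) := (Scheme.ΓSpecIso C).inv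
  have hinv : S.isoSpec.inv.appTop = (Scheme.ΓSpecIso Γ(S, ⊤)).inv := by
    have h1 : S.isoSpec.inv.appTop ≫ S.isoSpec.hom.appTop = 𝟙 _ := by
      rw [← Scheme.Hom.comp_appTop, Iso.hom_inv_id, Scheme.Hom.id_appTop]
    rw [Scheme.isoSpec_hom, Scheme.toSpecΓ_appTop] at h1
    rw [← cancel_mono (Scheme.ΓSpecIso Γ(S, ⊤)).hom, h1, Iso.inv_hom_id]
  have hH : H.hom.appTop = CommRingCat.ofHom (algebraMap Γ(S, ⊤) (ChartRing Γ(S, ⊤) m)) ≫ ρ := by
    show (Spec.map _ ≫ S.isoSpec.inv).appTop = _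
    rw [Scheme.Hom.comp_appTop, hinv]
    exact (Scheme.ΓSpecIso_inv_naturality _).symm
  have hLu : letI := H.hom.appTop.hom.toAlgebra
      IsCoord Γ(S, ⊤) m (fun b k => ρ.hom (chartCoord Γ(S, ⊤) m b k)) := by
    letI := H.hom.appTop.hom.toAlgebra
    exact (isCoord_chartCoord Γ(S, ⊤) m).map ρ.hom fun r => (ConcreteCategory.congr_hom hH r).symm
  obtain ⟨Z, hGZ, hLZ⟩ := exists_of_isCoord f hLu
  refine ⟨Z, hGZ, fun T hT W hG => ?_⟩
  letI := T.hom.appTop.hom.toAlgebra
  obtain ⟨φ, hφ⟩ := (isCoord_chartL f hG).exists_hom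
  let φ' : C ⟶ Γ(T.left, ⊤) := CommRingCat.ofHom φ.toRingHom
  let bl : T.left ⟶ H.left := T.left.toSpecΓ ≫ Spec.map φ'
  have hbl : ρ ≫ bl.appTop = φ' := by
    show (Scheme.ΓSpecIso C).inv ≫ (T.left.toSpecΓ ≫ Spec.map φ').appTop = φ'
    rw [Scheme.Hom.comp_appTop, ← Category.assoc, ← Scheme.ΓSpecIso_inv_naturality, Category.assoc,
      Scheme.toSpecΓ_appTop, Iso.inv_hom_id, Category.comp_id]
  let b : T ⟶ H := Over.homMk bl (by
    refine ext_of_isAffine ?_
    rw [Scheme.Hom.comp_appTop, hH, Category.assoc, hbl]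
    ext r
    exact φ.commutes r)
  have huniq : ∀ b' : T ⟶ H, _root_.HilbD.pull f b' Z.1 = W.1 →
      ∀ x k, b'.left.appTop.hom (ρ.hom (chartCoord Γ(S, ⊤) m x k)) = chartL f hG x k := fun b' hb' x k => by
    have hG' : Good f (pullObj f d b' Z) m := good_pull f b' hGZ
    have h1 := chartL_pull f b' hGZ hG' x k
    rw [hLZ] at h1
    rw [← h1]
    have : ∀ (W' : _root_.HilbD.Obj f d T) (hG' : Good f W' m), W' = W → chartL f hG' x k = chartL f hG x k := by
      rintro _ _ rfl; rfl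
    exact this _ hG' (Subtype.ext hb')
  refine ⟨b, ?_, fun b' hb' => Over.OverMorphism.ext (ext_of_isAffine ?_)⟩
  · have hG' : Good f (pullObj f d b Z) m := good_pull f b hGZ
    refine eq_of_chartL_eq f hG' hG (funext fun x => funext fun k => ?_)
    rw [chartL_pull f b hGZ hG' x k, hLZ]
    exact ((ConcreteCategory.congr_hom hbl (chartCoord Γ(S, ⊤) m x k)).trans (hφ x k)).symm
  · rw [← cancel_epi ρ]
    refine CommRingCat.hom_ext (chartHom_ext (fun r => ?_) fun x k => ?_)
    · have h1 := ConcreteCategory.congr_hom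
        ((Scheme.Hom.comp_appTop b'.left H.hom).symm.trans (congrArg Scheme.Hom.appTop (Over.w b'))) r
      have h2 := ConcreteCategory.congr_hom
        ((Scheme.Hom.comp_appTop b.left H.hom).symm.trans (congrArg Scheme.Hom.appTop (Over.w b))) r
      rw [hH] at h1 h2
      exact h1.trans h2.symm
    · exact (huniq b' hb' x k).trans ((ConcreteCategory.congr_hom hbl _).trans (hφ x k)).symm

/-- Representability of the Hilbert functor of points for an affine scheme over an affine scheme. -/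
theorem representable_of_isAffine (d : ℕ) : _root_.HilbD.Representable f d := by
  choose Z hGZ hcl using fun m : Fin d → Γ(X, ⊤) => exists_universal_chart f m
  have hcongr : ∀ {T : Over S} {W W' : _root_.HilbD.Obj f d T} {m : Fin d → Γ(X, ⊤)}, W.1 = W'.1 → Good f W m → Good f W' m := by
    intro T W W' m h hG
    rwa [← Subtype.ext h]
  have hmono : ∀ m (T : Over S) (a b : T ⟶ chartOb f m),
      _root_.HilbD.pull f a (Z m).1 = _root_.HilbD.pull f b (Z m).1 → a = b := by
    intro m T a b h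
    refine Over.OverMorphism.ext (T.left.affineCover.hom_ext _ _ fun i => ?_)
    let v : Over.mk (T.left.affineCover.f i ≫ T.hom) ⟶ T := Over.homMk (T.left.affineCover.f i) rfl
    haveI : IsAffine (Over.mk (T.left.affineCover.f i ≫ T.hom)).left := inferInstanceAs (IsAffine (T.left.affineCover.X i))
    have hG : Good f (pullObj f d (v ≫ a) (Z m)) m := good_pull f (v ≫ a) (hGZ m)
    have := (hcl m _ inferInstance _ hG).unique (y₁ := v ≫ a) (y₂ := v ≫ b) rfl (by
      show _root_.HilbD.pull f (v ≫ b) (Z m).1 = _root_.HilbD.pull f (v ≫ a) (Z m).1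
      rw [pull_comp, pull_comp, h])
    exact congrArg CommaMorphism.left this
  refine representable_of_openCover f d (fun m => chartOb f m) Z hmono (fun m T W => ?_) fun T W t => ?_
  · let U : T.left.Opens := ⨆ V : {V : T.left.affineOpens //
        Good f (pullObj f d (Over.homMk V.1.ι rfl : Over.mk (V.1.ι ≫ T.hom) ⟶ T) W) m}, V.1.1
    refine ⟨U, fun T' a => ⟨fun ⟨b, hb⟩ => ?_, fun hU => ?_⟩⟩
    · rintro _ ⟨t', rfl⟩
      obtain ⟨V₀, hV₀, -⟩ := IdealSh.Comap.exists_affine_le (a.left t') (⊤ : T.left.Opens) trivial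
      obtain ⟨V', hV', hle⟩ := IdealSh.Comap.exists_affine_le t' (a.left ⁻¹ᵁ V₀.1) hV₀
      let v₀ : Over.mk (V₀.1.ι ≫ T.hom) ⟶ T := Over.homMk V₀.1.ι rfl
      let v' : Over.mk (V'.1.ι ≫ T'.hom) ⟶ T' := Over.homMk V'.1.ι rfl
      let a' : Over.mk (V'.1.ι ≫ T'.hom) ⟶ Over.mk (V₀.1.ι ≫ T.hom) := Over.homMk (a.left.resLE V₀.1 V'.1 hle) (by
        show a.left.resLE V₀.1 V'.1 hle ≫ V₀.1.ι ≫ T.hom = V'.1.ι ≫ T'.hom
        rw [Scheme.Hom.resLE_comp_ι_assoc, Over.w a])
      haveI : IsAffine (Over.mk (V₀.1.ι ≫ T.hom)).left := V₀.2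
      haveI : IsAffine (Over.mk (V'.1.ι ≫ T'.hom)).left := V'.2
      have hva : a' ≫ v₀ = v' ≫ a := Over.OverMorphism.ext (Scheme.Hom.resLE_comp_ι _ _)
      have hG : Good f (pullObj f d a' (pullObj f d v₀ W)) m := by
        refine hcongr ?_ (good_pull f (v' ≫ b) (hGZ m))
        show _root_.HilbD.pull f (v' ≫ b) (Z m).1 = _root_.HilbD.pull f a' (_root_.HilbD.pull f v₀ W.1)
        rw [pull_comp, hb, ← pull_comp, ← pull_comp, hva]
      obtain ⟨V, v, hVa, hVo, hmem, hGV⟩ := exists_good_nhd f a' (pullObj f d v₀ W) hG ⟨t', hV'⟩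
      haveI := hVo
      haveI : IsOpenImmersion (v ≫ v₀).left := inferInstanceAs (IsOpenImmersion (v.left ≫ V₀.1.ι))
      haveI := hVa
      let O : T.left.affineOpens := ⟨(v ≫ v₀).left.opensRange, isAffineOpen_opensRange _⟩
      let e : Over.mk (O.1.ι ≫ T.hom) ⟶ V := Over.homMk ((v ≫ v₀).left.isoOpensRange.inv) (by
        show (v ≫ v₀).left.isoOpensRange.inv ≫ V.hom = O.1.ι ≫ T.hom
        rw [← Over.w (v ≫ v₀), ← Category.assoc, Scheme.Hom.isoOpensRange_inv_comp])
      haveI : IsAffine (Over.mk (O.1.ι ≫ T.hom)).left := O.2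
      refine TopologicalSpace.Opens.mem_iSup.mpr ⟨⟨O, hcongr ?_ (good_pull f e hGV)⟩, ?_⟩
      · show _root_.HilbD.pull f e (_root_.HilbD.pull f v (_root_.HilbD.pull f v₀ W.1)) = _root_.HilbD.pull f _ W.1
        rw [← pull_comp, ← pull_comp]
        refine congrArg (fun w : _ ⟶ T => _root_.HilbD.pull f w W.1) (Over.OverMorphism.ext ?_)
        show (v ≫ v₀).left.isoOpensRange.inv ≫ v.left ≫ V₀.1.ι = O.1.ι
        exact Scheme.Hom.isoOpensRange_inv_comp _
      · obtain ⟨y, hy⟩ := hmem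
        refine ⟨y, ?_⟩
        show V₀.1.ι (v.left y) = a.left t'
        rw [hy]
        show (a.left.resLE V₀.1 V'.1 hle ≫ V₀.1.ι) ⟨t', hV'⟩ = a.left t'
        rw [Scheme.Hom.resLE_comp_ι]
        rfl
    · have hloc : ∀ x : T'.left, ∃ (V' : T'.left.affineOpens), x ∈ V'.1 ∧
          Good f (pullObj f d ((Over.homMk V'.1.ι rfl : Over.mk (V'.1.ι ≫ T'.hom) ⟶ T') ≫ a) W) m := by
        intro x
        obtain ⟨⟨V, hGV⟩, hxV⟩ := TopologicalSpace.Opens.mem_iSup.mp (hU ⟨x, rfl⟩)
        obtain ⟨V', hxV', hle⟩ := IdealSh.Comap.exists_affine_le x (a.left ⁻¹ᵁ V.1) hxV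
        refine ⟨V', hxV', ?_⟩
        let a' : Over.mk (V'.1.ι ≫ T'.hom) ⟶ Over.mk (V.1.ι ≫ T.hom) := Over.homMk (a.left.resLE V.1 V'.1 hle) (by
          show a.left.resLE V.1 V'.1 hle ≫ V.1.ι ≫ T.hom = V'.1.ι ≫ T'.hom
          rw [Scheme.Hom.resLE_comp_ι_assoc, Over.w a])
        haveI : IsAffine (Over.mk (V.1.ι ≫ T.hom)).left := V.2
        haveI : IsAffine (Over.mk (V'.1.ι ≫ T'.hom)).left := V'.2
        refine hcongr ?_ (good_pull f a' hGV)
        show _root_.HilbD.pull f a' (_root_.HilbD.pull f _ W.1) = _root_.HilbD.pull f _ W.1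
        rw [← pull_comp]
        exact congrArg (fun w : _ ⟶ T => _root_.HilbD.pull f w W.1) (Over.OverMorphism.ext (Scheme.Hom.resLE_comp_ι _ _))
      choose V' hxV' hGV' using hloc
      let 𝒰 : T'.left.OpenCover := Scheme.Cover.mkOfCovers T'.left (fun x => (V' x).1.toScheme) (fun x => (V' x).1.ι)
        (fun x => ⟨x, ⟨x, hxV' x⟩, rfl⟩) fun x => inferInstance
      let w : ∀ x, Over.mk (𝒰.f x ≫ T'.hom) ⟶ T' := fun x => Over.homMk (𝒰.f x) rfl
      have haff : ∀ x, IsAffine (Over.mk (𝒰.f x ≫ T'.hom)).left := fun x => (V' x).2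
      choose b hb using fun x => (hcl m _ (haff x) _ (hGV' x)).exists
      have hglue : ∀ i j, pullback.fst (𝒰.f i) (𝒰.f j) ≫ (b i).left = pullback.snd (𝒰.f i) (𝒰.f j) ≫ (b j).left := by
        intro i j
        let P : Over S := Over.mk ((pullback.fst (𝒰.f i) (𝒰.f j) ≫ 𝒰.f i) ≫ T'.hom)
        let p₁ : P ⟶ Over.mk (𝒰.f i ≫ T'.hom) := Over.homMk (pullback.fst _ _) (Category.assoc _ _ _).symm
        let p₂ : P ⟶ Over.mk (𝒰.f j ≫ T'.hom) :=
          Over.homMk (pullback.snd _ _) (by simp [P, pullback.condition_assoc])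
        refine congrArg CommaMorphism.left (hmono m P (p₁ ≫ b i) (p₂ ≫ b j) ?_)
        have hi : _root_.HilbD.pull f (b i) (Z m).1 = _root_.HilbD.pull f (w i ≫ a) W.1 := hb i
        have hj : _root_.HilbD.pull f (b j) (Z m).1 = _root_.HilbD.pull f (w j ≫ a) W.1 := hb j
        rw [pull_comp, pull_comp, hi, hj, ← pull_comp, ← pull_comp]
        exact congrArg (fun v : P ⟶ T => _root_.HilbD.pull f v W.1) (Over.OverMorphism.ext
          (pullback.condition_assoc (f := 𝒰.f i) (g := 𝒰.f j) a.left))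
      let bl : T'.left ⟶ (chartOb f m).left := 𝒰.glueMorphisms (fun i => (b i).left) hglue
      let B : T' ⟶ chartOb f m := Over.homMk bl (𝒰.hom_ext _ _ fun i => by
        rw [← Category.assoc, 𝒰.ι_glueMorphisms]
        exact Over.w (b i))
      refine ⟨B, pull_cover_ext f 𝒰 fun i => ?_⟩
      rw [← pull_comp, ← pull_comp]
      refine Eq.trans ?_ (hb i)
      exact congrArg (fun v : _ ⟶ chartOb f m => _root_.HilbD.pull f v (Z m).1)
        (Over.OverMorphism.ext (𝒰.ι_glueMorphisms _ hglue i))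
  · obtain ⟨V, hV, -⟩ := IdealSh.Comap.exists_affine_le t (⊤ : T.left.Opens) trivial
    let v₀ : Over.mk (V.1.ι ≫ T.hom) ⟶ T := Over.homMk V.1.ι rfl
    haveI : IsAffine (Over.mk (V.1.ι ≫ T.hom)).left := V.2
    let K : Over S := Over.mk ((V.1.toScheme.fromSpecResidueField ⟨t, hV⟩) ≫ V.1.ι ≫ T.hom)
    let a : K ⟶ Over.mk (V.1.ι ≫ T.hom) := Over.homMk (V.1.toScheme.fromSpecResidueField ⟨t, hV⟩) rfl
    haveI : IsAffine K.left := inferInstanceAs (IsAffine (Spec _))
    let Wκ := pullObj f d a (pullObj f d v₀ W)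
    haveI := isAffine_subscheme f Wκ
    have hfld : IsField Γ(K.left, ⊤) :=
      MulEquiv.isField (Field.toIsField (V.1.toScheme.residueField ⟨t, hV⟩))
        (Scheme.ΓSpecIso (V.1.toScheme.residueField ⟨t, hV⟩)).commRingCatIsoToRingEquiv.toMulEquiv
    letI := hfld.toField
    letI : Algebra Γ(K.left, ⊤) Γ(Wκ.1.subscheme, ⊤) := (qW f Wκ).appTop.hom.toAlgebra
    obtain ⟨hfin, -, hrk⟩ := module_of_isFinLocFreeOfDeg (qW f Wκ) Wκ.2
    have hd : Module.finrank Γ(K.left, ⊤) Γ(Wκ.1.subscheme, ⊤) = d := by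
      have := hrk ⟨⊥, Ideal.isPrime_bot⟩
      rwa [Module.rankAtStalk_eq_finrank_of_free] at this
    haveI : IsAffine (PicF.XT f K) := IsAffine.of_isPullback (IsPullback.of_hasPullback f K.hom)
    have hspan : Submodule.span Γ(K.left, ⊤) (Set.range fun b => (xW f Wκ).appTop.hom b) = ⊤ := by
      refine Submodule.eq_top_iff'.mpr fun z => ?_
      obtain ⟨p, rfl⟩ := (IsClosedImmersion.isAffine_surjective_of_isAffine Wκ.1.subschemeι).2 z
      induction p using mul_induction f K with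
      | h0 => rw [map_zero]; exact Submodule.zero_mem _
      | hmul r b =>
        have e : Wκ.1.subschemeι.appTop.hom ((PicF.XTproj f K).appTop.hom r * (pullback.fst f K.hom).appTop.hom b) =
            r • (xW f Wκ).appTop.hom b := by
          rw [map_mul, Algebra.smul_def]
          rfl
        exact e ▸ Submodule.smul_mem _ r (Submodule.subset_span ⟨b, rfl⟩)
      | hadd x y hx hy => rw [map_add]; exact Submodule.add_mem _ hx hy
    obtain ⟨m, hm⟩ := exists_basis_of_span _ hspan hd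
    have hG : Good f Wκ m := by
      refine good_of_surjective f fun z => ?_
      obtain ⟨c, hc⟩ := hm.2 z
      refine ⟨c, ?_⟩
      rw [← hc, Fintype.linearCombination_apply]
      simp only [chartMap, Algebra.smul_def, Function.comp_apply]
      rfl
    obtain ⟨V₁, v, hVa, hVo, hmem, hGV⟩ :=
      exists_good_nhd f a (pullObj f d v₀ W) hG (IsLocalRing.closedPoint _)
    haveI := hVo
    obtain ⟨b, hb, -⟩ := hcl m V₁ hVa _ hGV
    refine ⟨m, V₁, v ≫ v₀, inferInstanceAs (IsOpenImmersion (v.left ≫ V.1.ι)), ?_, b, ?_⟩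
    · obtain ⟨y, hy⟩ := hmem
      refine ⟨y, ?_⟩
      show V.1.ι (v.left y) = t
      rw [hy]
      show V.1.ι (V.1.toScheme.fromSpecResidueField ⟨t, hV⟩ _) = t
      rw [Scheme.fromSpecResidueField_apply]
      rfl
    · rw [hb, pull_comp]
      rfl

end Groth.Agent.HilbD
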