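import Groth.Agent.HilbD.OpenPush
import Groth.Agent.HilbD.ChartRep
import Groth.Agent.SGA1Quot.Exists

/-!
# Representability of the Hilbert functor of points when points in fibres lie in affine opens
-/

set_option autoImplicit false

universe u

open CategoryTheory CategoryTheory.Limits AlgebraicGeometry

noncomputable section

namespace Groth.Agent.HilbD

theorem natCard_primeSpectrum_le (k A : Type*) [Field k] [CommRing A] [Algebra k A] [Module.Finite k A] :
    Nat.card (PrimeSpectrum A) ≤ Module.finrank k A := by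
  haveI : IsArtinianRing A := IsArtinianRing.of_finite k A
  haveI : Fintype (MaximalSpectrum A) := Fintype.ofFinite _
  let π : A →ₗ[k] ∀ I : MaximalSpectrum A, A ⧸ I.asIdeal :=
    LinearMap.pi fun I => (Ideal.Quotient.mkₐ k I.asIdeal).toLinearMap
  have hπ : Function.Surjective π := fun y => by
    obtain ⟨x, hx⟩ := Ideal.quotientInfToPiQuotient_surj (I := fun I : MaximalSpectrum A => I.asIdeal)
      (fun I J h => Ideal.isCoprime_iff_sup_eq.mpr (I.isMaximal.coprime_of_ne J.isMaximal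
        fun e => h (MaximalSpectrum.ext e))) y
    obtain ⟨a, rfl⟩ := Ideal.Quotient.mk_surjective x
    exact ⟨a, hx⟩
  have h1 := LinearMap.finrank_le_finrank_of_surjective hπ
  rw [Module.finrank_pi_fintype] at h1
  rw [Nat.card_congr IsArtinianRing.primeSpectrumEquivMaximalSpectrum, Nat.card_eq_fintype_card]
  refine le_trans ?_ h1
  rw [← Finset.card_univ, Finset.card_eq_sum_ones]
  refine Finset.sum_le_sum fun I _ => ?_
  haveI : Nontrivial (A ⧸ I.asIdeal) := Ideal.Quotient.nontrivial_iff.mpr I.isMaximal.ne_top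
  exact Module.finrank_pos

variable {X S : Scheme.{u}} (f : X ⟶ S) {d : ℕ}

/-- A family of degree `d` has at most `d` points over each point of the base. -/
theorem exists_finset_fibre {T : Over S} (W : _root_.HilbD.Obj f d T) (t : T.left) :
    ∃ s : Finset W.1.subscheme, s.card ≤ d ∧ ∀ z, qW f W z = t → z ∈ s := by
  classical
  let K : Over S := Over.mk (T.left.fromSpecResidueField t ≫ T.hom)
  let a : K ⟶ T := Over.homMk (T.left.fromSpecResidueField t) rfl
  haveI : IsAffine K.left := inferInstanceAs (IsAffine (Spec _))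
  let Wκ := pullObj f d a W
  haveI := isAffine_subscheme f Wκ
  have hfld : IsField Γ(K.left, ⊤) :=
    MulEquiv.isField (Field.toIsField (T.left.residueField t))
      (Scheme.ΓSpecIso (T.left.residueField t)).commRingCatIsoToRingEquiv.toMulEquiv
  letI := hfld.toField
  letI : Algebra Γ(K.left, ⊤) Γ(Wκ.1.subscheme, ⊤) := (qW f Wκ).appTop.hom.toAlgebra
  obtain ⟨hfin, -, hrk⟩ := module_of_isFinLocFreeOfDeg (qW f Wκ) Wκ.2
  have hd : Module.finrank Γ(K.left, ⊤) Γ(Wκ.1.subscheme, ⊤) = d := by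
    have := hrk ⟨⊥, Ideal.isPrime_bot⟩
    rwa [Module.rankAtStalk_eq_finrank_of_free] at this
  haveI : IsArtinianRing Γ(Wκ.1.subscheme, ⊤) := IsArtinianRing.of_finite Γ(K.left, ⊤) _
  haveI : Finite Wκ.1.subscheme :=
    Finite.of_injective (Wκ.1.subscheme.isoSpec.hom : Wκ.1.subscheme → PrimeSpectrum Γ(Wκ.1.subscheme, ⊤))
      Wκ.1.subscheme.isoSpec.hom.homeomorph.injective
  haveI : Fintype Wκ.1.subscheme := Fintype.ofFinite _
  obtain ⟨ψ, hsq⟩ : ∃ ψ : Wκ.1.subscheme ⟶ W.1.subscheme, IsPullback ψ (qW f Wκ) (qW f W) a.left := by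
    obtain ⟨ψ, -, hsq⟩ := exists_isPullback_pull f a W.1
    exact ⟨ψ, hsq⟩
  refine ⟨(Finset.univ : Finset Wκ.1.subscheme).image fun z => ψ z, Finset.card_image_le.trans ?_, fun z hz => ?_⟩
  · rw [Finset.card_univ, ← Nat.card_eq_fintype_card]
    refine le_trans ?_ ((natCard_primeSpectrum_le Γ(K.left, ⊤) Γ(Wκ.1.subscheme, ⊤)).trans hd.le)
    exact Nat.card_le_card_of_injective (Wκ.1.subscheme.isoSpec.hom : Wκ.1.subscheme → PrimeSpectrum Γ(Wκ.1.subscheme, ⊤))
      Wκ.1.subscheme.isoSpec.hom.homeomorph.injective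
  · obtain ⟨x, hx, -⟩ := Scheme.exists_preimage_of_isPullback hsq z (IsLocalRing.closedPoint _)
      (by rw [hz]; exact (Scheme.fromSpecResidueField_apply t _).symm)
    exact Finset.mem_image.mpr ⟨x, Finset.mem_univ _, hx⟩

theorem mem_range_of_eq_pull_pushOpen {U O : Scheme.{u}} (g : U ⟶ O) (o : O ⟶ S) (j : U ⟶ X)
    (w : j ≫ f = g ≫ o) [IsOpenImmersion o] [IsOpenImmersion j] [IsSeparated f] {H₀ : Over O}
    (Z₀ : _root_.HilbD.Obj g d H₀) {T : Over S} (b : T ⟶ toS o H₀) (W : _root_.HilbD.Obj f d T)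
    (hW : _root_.HilbD.pull f b (pushOpen f g o j w Z₀).1 = W.1) (z : W.1.subscheme) :
    xW f W z ∈ Set.range j := by
  obtain rfl : pullObj f d b (pushOpen f g o j w Z₀) = W := Subtype.ext hW
  obtain ⟨ψ, hψ, -⟩ := exists_isPullback_pull f b (pushOpen f g o j w Z₀).1
  have e : xW f (pullObj f d b (pushOpen f g o j w Z₀)) = ψ ≫ xW f (pushOpen f g o j w Z₀) := by
    rw [← Category.assoc, hψ, Category.assoc, XTmap_fst]
    rfl
  rw [e]
  exact mem_range_of_pushOpen f g o j w Z₀ (ψ z)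

/-- Representability of the Hilbert functor of points when points in fibres lie in affine opens. -/
theorem representable_of_af [IsSeparated f] (d : ℕ)
    (h : ∀ (s : S) (x : Fin d → X), (∀ i, f.base (x i) = s) → ∃ U : X.Opens, IsAffineOpen U ∧ ∀ i, x i ∈ U) :
    _root_.HilbD.Representable f d := by
  classical
  let ι := Σ O : S.affineOpens, {U : X.affineOpens // U.1 ≤ f ⁻¹ᵁ O.1}
  let g : ∀ i : ι, i.2.1.1.toScheme ⟶ i.1.1.toScheme := fun i => f.resLE i.1.1 i.2.1.1 i.2.2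
  have w : ∀ i : ι, i.2.1.1.ι ≫ f = g i ≫ i.1.1.ι := fun i => (Scheme.Hom.resLE_comp_ι _ _).symm
  have hrep : ∀ i : ι, _root_.HilbD.Representable (g i) d := fun i =>
    haveI : IsAffine i.1.1.toScheme := i.1.2
    haveI : IsAffine i.2.1.1.toScheme := i.2.1.2
    representable_of_isAffine (g i) d
  choose H₀ Z₀ hZ₀ using hrep
  let P : ι → Over S := fun i => toS i.1.1.ι (H₀ i)
  let Z : ∀ i, _root_.HilbD.Obj f d (P i) := fun i => pushOpen f (g i) i.1.1.ι i.2.1.1.ι (w i) (Z₀ i)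
  have hlocus : ∀ (i : ι) (T : Over S) (W : _root_.HilbD.Obj f d T), ∃ V : T.left.Opens,
      (V : Set T.left) = {t | T.hom t ∈ i.1.1 ∧ ∀ z, qW f W z = t → xW f W z ∈ i.2.1.1} := by
    intro i T W
    obtain ⟨⟨h1, -, -⟩, -⟩ := W.2
    haveI : IsFinite (qW f W) := h1
    refine ⟨⟨_, ((T.hom ⁻¹ᵁ i.1.1).2.inter ((qW f W).isClosedMap _
      (xW f W ⁻¹ᵁ i.2.1.1).2.isClosed_compl).isOpen_compl)⟩, ?_⟩
    ext t
    constructor
    · rintro ⟨h1, h2⟩
      refine ⟨h1, fun z hz => ?_⟩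
      by_contra hn
      exact h2 ⟨z, hn, hz⟩
    · rintro ⟨h1, h2⟩
      exact ⟨h1, fun ⟨z, hn, hz⟩ => hn (h2 z hz)⟩
  choose V hV using hlocus
  have hiff : ∀ (i : ι) (T : Over S) (W : _root_.HilbD.Obj f d T) (T' : Over S) (a : T' ⟶ T),
      (∃ b : T' ⟶ P i, _root_.HilbD.pull f b (Z i).1 = _root_.HilbD.pull f a W.1) ↔
        Set.range a.left ⊆ (V i T W : Set T.left) := by
    intro i T W T' a
    obtain ⟨ψ, hψ, hsq⟩ := exists_isPullback_pull f a W.1
    have hx : xW f (pullObj f d a W) = ψ ≫ xW f W := by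
      rw [← Category.assoc, hψ, Category.assoc, XTmap_fst]
      rfl
    rw [hV]
    constructor
    · rintro ⟨b, hb⟩ _ ⟨t', rfl⟩
      refine ⟨?_, fun z hz => ?_⟩
      · have e : a.left ≫ T.hom = b.left ≫ (H₀ i).hom ≫ i.1.1.ι := (Over.w a).trans (Over.w b).symm
        have e' := congrArg (fun φ : T'.left ⟶ S => φ t') e
        simp only [Scheme.Hom.comp_apply] at e'
        rw [e']
        exact ((H₀ i).hom (b.left t')).2
      · obtain ⟨z', hz', -⟩ := Scheme.exists_preimage_of_isPullback hsq z t' hz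
        obtain ⟨y, hy⟩ := mem_range_of_eq_pull_pushOpen f (g i) i.1.1.ι i.2.1.1.ι (w i) (Z₀ i) b
          (pullObj f d a W) hb z'
        rw [hx] at hy
        have hy' : i.2.1.1.ι y = xW f W z := hy.trans (congrArg (xW f W) hz')
        exact hy' ▸ y.2
    · intro hr
      have hT' : Set.range T'.hom ⊆ Set.range i.1.1.ι := by
        rintro _ ⟨t', rfl⟩
        rw [Scheme.Opens.range_ι, ← Over.w a, Scheme.Hom.comp_apply]
        exact (hr ⟨t', rfl⟩).1
      let T₀ : Over i.1.1.toScheme := Over.mk (IsOpenImmersion.lift i.1.1.ι T'.hom hT')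
      let e : toS i.1.1.ι T₀ ⟶ T' := Over.homMk (𝟙 T'.left) (by simp [T₀, IsOpenImmersion.lift_fac])
      let e' : T' ⟶ toS i.1.1.ι T₀ := Over.homMk (𝟙 T'.left) (by simp [T₀, IsOpenImmersion.lift_fac])
      obtain ⟨ψ', hψ', hsq'⟩ := exists_isPullback_pull f (e ≫ a) W.1
      obtain ⟨I, hI⟩ := exists_pushOpen f (g i) i.1.1.ι i.2.1.1.ι (w i) (pullObj f d (e ≫ a) W) fun z => by
        have hx' : xW f (pullObj f d (e ≫ a) W) = ψ' ≫ xW f W := by
          rw [← Category.assoc, hψ', Category.assoc, XTmap_fst]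
          rfl
        rw [Scheme.Opens.range_ι]
        show xW f (pullObj f d (e ≫ a) W) z ∈ (i.2.1.1 : Set X)
        rw [hx']
        show xW f W (ψ' z) ∈ (i.2.1.1 : Set X)
        refine (hr ⟨(𝟙 T'.left : T'.left ⟶ T'.left) (qW f (pullObj f d (e ≫ a) W) z), rfl⟩).2 _ ?_
        exact congrArg (fun φ : _ ⟶ T.left => φ z) hsq'.w
      obtain ⟨b₀, hb₀, -⟩ := hZ₀ i T₀ I
      refine ⟨e' ≫ toSMap i.1.1.ι b₀, ?_⟩
      rw [pull_comp, pull_pushOpen f (g i) i.1.1.ι i.2.1.1.ι (w i),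
        show pullObj (g i) d b₀ (Z₀ i) = I from Subtype.ext hb₀, hI]
      show _root_.HilbD.pull f e' (_root_.HilbD.pull f (e ≫ a) W.1) = _
      rw [← pull_comp, show e' ≫ e ≫ a = a from Over.OverMorphism.ext
        ((Category.id_comp _).trans (Category.id_comp _))]
  refine representable_of_openCover f d P Z (fun i T a b hab => ?_) (fun i T W => ⟨V i T W, hiff i T W⟩)
    fun T W t => ?_
  · let T₀ : Over i.1.1.toScheme := Over.mk (a.left ≫ (H₀ i).hom)
    let e : toS i.1.1.ι T₀ ⟶ T := Over.homMk (𝟙 T.left) (by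
      show 𝟙 _ ≫ T.hom = (a.left ≫ (H₀ i).hom) ≫ i.1.1.ι
      rw [Category.id_comp, Category.assoc]; exact (Over.w a).symm)
    let a₀ : T₀ ⟶ H₀ i := Over.homMk a.left rfl
    let b₀ : T₀ ⟶ H₀ i := Over.homMk b.left ((cancel_mono i.1.1.ι).mp (by
      show (b.left ≫ (H₀ i).hom) ≫ i.1.1.ι = (a.left ≫ (H₀ i).hom) ≫ i.1.1.ι
      rw [Category.assoc, Category.assoc]; exact (Over.w b).trans (Over.w a).symm))
    have ha : e ≫ a = toSMap i.1.1.ι a₀ := Over.OverMorphism.ext (Category.id_comp _)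
    have hb : e ≫ b = toSMap i.1.1.ι b₀ := Over.OverMorphism.ext (Category.id_comp _)
    have h1 : _root_.HilbD.pull f (e ≫ a) (Z i).1 = _root_.HilbD.pull f (e ≫ b) (Z i).1 := by
      rw [pull_comp, pull_comp, hab]
    rw [ha, hb, pull_pushOpen f (g i) i.1.1.ι i.2.1.1.ι (w i),
      pull_pushOpen f (g i) i.1.1.ι i.2.1.1.ι (w i)] at h1
    have h2 := congrArg (fun J : (PicF.XT f (toS i.1.1.ι T₀)).IdealSheafData =>
      J.comap (openT f (g i) i.1.1.ι i.2.1.1.ι (w i) T₀)) h1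
    simp only [comap_pushOpen] at h2
    have h3 : a₀ = b₀ := (hZ₀ i T₀ (pullObj (g i) d a₀ (Z₀ i))).unique (y₁ := a₀) (y₂ := b₀) rfl h2.symm
    exact Over.OverMorphism.ext (congrArg (fun φ : T₀ ⟶ H₀ i => φ.left) h3 :)
  · obtain ⟨O, hO, -⟩ := IdealSh.Comap.exists_affine_le (T.hom t) (⊤ : S.Opens) trivial
    obtain ⟨s, hs, hmem⟩ := exists_finset_fibre f W t
    let s' := s.filter fun z => qW f W z = t
    have hfx : ∀ z ∈ s', f (xW f W z) = T.hom t := fun z hz => by
      have e : xW f W ≫ f = qW f W ≫ T.hom := by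
        rw [Category.assoc, Category.assoc]
        exact congrArg (W.1.subschemeι ≫ ·) pullback.condition
      exact (congrArg (fun φ : W.1.subscheme ⟶ S => φ z) e).trans (congrArg T.hom (Finset.mem_filter.mp hz).2)
    obtain ⟨U, hU, hUle, hUmem⟩ : ∃ U : X.Opens, IsAffineOpen U ∧ U ≤ f ⁻¹ᵁ O.1 ∧ ∀ z ∈ s', xW f W z ∈ U := by
      obtain he | ⟨z₀, hz₀⟩ := s'.eq_empty_or_nonempty
      · exact ⟨⊥, isAffineOpen_bot X, bot_le, fun z hz => by simp [he] at hz⟩
      let x : Fin d → X := fun k => if hk : (k : ℕ) < s'.card then xW f W (s'.equivFin.symm ⟨k, hk⟩).1 else xW f W z₀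
      obtain ⟨U', hU', hxU'⟩ := h (T.hom t) x fun k => by
        simp only [x]
        split
        · exact hfx _ (s'.equivFin.symm _).2
        · exact hfx _ hz₀
      have hall : ∀ z : s', xW f W z.1 ∈ U' ⊓ f ⁻¹ᵁ O.1 := fun z => by
        refine ⟨?_, ?_⟩
        · have hk : ((s'.equivFin z : Fin s'.card) : ℕ) < d :=
            lt_of_lt_of_le (s'.equivFin z).2 ((Finset.card_filter_le _ _).trans hs)
          have := hxU' ⟨_, hk⟩
          simp only [x, dif_pos (s'.equivFin z).2, Fin.eta, Equiv.symm_apply_apply] at this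
          exact this
        · show f (xW f W z.1) ∈ O.1
          rw [hfx _ z.2]; exact hO
      obtain ⟨φ, hφle, hφmem⟩ := SGA1Quot.exists_basicOpen_finite hU' (f ⁻¹ᵁ O.1) (fun z : s' => xW f W z.1) hall
      exact ⟨X.basicOpen φ, hU'.basicOpen φ, hφle, fun z hz => hφmem ⟨z, hz⟩⟩
    let i : ι := ⟨O, ⟨⟨U, hU⟩, hUle⟩⟩
    refine ⟨i, Over.mk ((V i T W).ι ≫ T.hom), Over.homMk (V i T W).ι rfl, inferInstanceAs (IsOpenImmersion (V i T W).ι), ?_, ?_⟩
    · show t ∈ Set.range (V i T W).ι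
      rw [Scheme.Opens.range_ι, hV]
      exact ⟨hO, fun z hz => hUmem z (Finset.mem_filter.mpr ⟨hmem z hz, hz⟩)⟩
    · exact (hiff i T W _ _).mpr (Scheme.Opens.range_ι (V i T W)).le

end Groth.Agent.HilbD
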