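import Groth.Agent.HilbD.VanishLocus
import Groth.Prelude.Def_HilbD

/-!
# Base change for the Hilbert functor of points, and inclusion loci
-/

set_option autoImplicit false

universe u

open CategoryTheory CategoryTheory.Limits AlgebraicGeometry

noncomputable section

namespace Groth.Agent.HilbD

variable {X S : Scheme.{u}} (f : X ⟶ S) (d : ℕ)

lemma pull_eq_comap {T T' : Over S} (g : T' ⟶ T) (I : (PicF.XT f T).IdealSheafData) :
    _root_.HilbD.pull f g I = I.comap (PicF.XTmap f g) := by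
  rw [_root_.HilbD.pull, Scheme.IdealSheafData.comap,
    ← Scheme.Hom.ker_comp_of_isIso (pullbackSymmetry I.subschemeι (PicF.XTmap f g)).inv,
    pullbackSymmetry_inv_comp_snd]

lemma XTmap_fst {T T' : Over S} (g : T' ⟶ T) :
    PicF.XTmap f g ≫ pullback.fst f T.hom = pullback.fst f T'.hom :=
  (pullback.lift_fst _ _ _).trans (Category.comp_id _)

lemma XTmap_proj {T T' : Over S} (g : T' ⟶ T) :
    PicF.XTmap f g ≫ PicF.XTproj f T = PicF.XTproj f T' ≫ g.left :=
  pullback.lift_snd _ _ _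

/-- `X_{T'}` is the base change of `X_T` along `T' ⟶ T`. -/
lemma isPullback_XTmap {T T' : Over S} (g : T' ⟶ T) :
    IsPullback (PicF.XTmap f g) (PicF.XTproj f T') (PicF.XTproj f T) g.left := by
  refine IsPullback.of_right ?_ (XTmap_proj f g) (IsPullback.of_hasPullback f T.hom)
  rw [XTmap_fst, Over.w g]
  exact IsPullback.of_hasPullback f T'.hom

lemma pull_id {T : Over S} (I : (PicF.XT f T).IdealSheafData) : _root_.HilbD.pull f (𝟙 T) I = I := by
  have h : PicF.XTmap f (𝟙 T) = 𝟙 _ := by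
    apply pullback.hom_ext
    · rw [XTmap_fst, Category.id_comp]
    · exact (XTmap_proj f (𝟙 T)).trans (by simp)
  rw [pull_eq_comap, h, Scheme.IdealSheafData.comap_id]

lemma XTmap_comp {T T' T'' : Over S} (g : T' ⟶ T) (h : T'' ⟶ T') :
    PicF.XTmap f (h ≫ g) = PicF.XTmap f h ≫ PicF.XTmap f g := by
  apply pullback.hom_ext
  · rw [Category.assoc, XTmap_fst, XTmap_fst, XTmap_fst]
  · show PicF.XTmap f (h ≫ g) ≫ PicF.XTproj f T = (PicF.XTmap f h ≫ PicF.XTmap f g) ≫ PicF.XTproj f T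
    rw [Category.assoc, XTmap_proj, XTmap_proj, ← Category.assoc, XTmap_proj, Category.assoc, Over.comp_left]

lemma pull_comp {T T' T'' : Over S} (g : T' ⟶ T) (h : T'' ⟶ T') (I : (PicF.XT f T).IdealSheafData) :
    _root_.HilbD.pull f (h ≫ g) I = _root_.HilbD.pull f h (_root_.HilbD.pull f g I) := by
  rw [pull_eq_comap, pull_eq_comap, pull_eq_comap, XTmap_comp, Scheme.IdealSheafData.comap_comp]

/-- The pulled back subscheme is the base change of the subscheme. -/
lemma exists_isPullback_pull {T T' : Over S} (g : T' ⟶ T) (I : (PicF.XT f T).IdealSheafData) :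
    ∃ ψ : (_root_.HilbD.pull f g I).subscheme ⟶ I.subscheme,
      ψ ≫ I.subschemeι = (_root_.HilbD.pull f g I).subschemeι ≫ PicF.XTmap f g ∧
      IsPullback ψ ((_root_.HilbD.pull f g I).subschemeι ≫ PicF.XTproj f T')
        (I.subschemeι ≫ PicF.XTproj f T) g.left := by
  rw [pull_eq_comap]
  refine ⟨(I.comapIso _).hom ≫ pullback.snd _ _, ?_, ?_⟩
  · rw [Category.assoc, ← pullback.condition, Scheme.IdealSheafData.comapIso_hom_fst_assoc]
  · have h1 : IsPullback ((I.comapIso (PicF.XTmap f g)).hom ≫ pullback.snd _ _)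
        (I.comap (PicF.XTmap f g)).subschemeι I.subschemeι (PicF.XTmap f g) := by
      refine IsPullback.of_iso_pullback ⟨?_⟩ ((I.comapIso _) ≪≫ pullbackSymmetry _ _) ?_ ?_
      · rw [Category.assoc, ← pullback.condition, Scheme.IdealSheafData.comapIso_hom_fst_assoc]
      · simp
      · simp
    exact h1.paste_vert (isPullback_XTmap f g)

/-- The base change of a family is a family. -/
lemma isFinLocFreeOfDeg_pull {T T' : Over S} (g : T' ⟶ T) {I : (PicF.XT f T).IdealSheafData}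
    (h : Mor2.IsFinLocFreeOfDeg d (I.subschemeι ≫ PicF.XTproj f T)) :
    Mor2.IsFinLocFreeOfDeg d ((_root_.HilbD.pull f g I).subschemeι ≫ PicF.XTproj f T') := by
  obtain ⟨ψ, -, hsq⟩ := exists_isPullback_pull f g I
  obtain ⟨⟨h1, h2, h3⟩, h4⟩ := h
  refine ⟨⟨MorphismProperty.of_isPullback (P := @IsFinite) hsq h1,
    MorphismProperty.of_isPullback (P := @Flat) hsq h2,
    MorphismProperty.of_isPullback (P := @LocallyOfFinitePresentation) hsq h3⟩, fun y => ?_⟩
  haveI := h1; haveI := h2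
  exact (Scheme.Hom.finrank_of_isPullback _ _ _ _ hsq y).trans (h4 _)

/-- Pullback of an object of the Hilbert functor. -/
def pullObj {T T' : Over S} (g : T' ⟶ T) (Z : _root_.HilbD.Obj f d T) : _root_.HilbD.Obj f d T' :=
  ⟨_root_.HilbD.pull f g Z.1, isFinLocFreeOfDeg_pull f d g Z.2⟩

lemma le_iff_comap_subschemeι {P : Scheme.{u}} (I J : P.IdealSheafData) :
    J ≤ I ↔ J.comap I.subschemeι = ⊥ := by
  rw [← le_bot_iff (a := J.comap I.subschemeι), ← Scheme.IdealSheafData.le_map_iff_comap_le,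
    Scheme.IdealSheafData.map_bot, Scheme.IdealSheafData.ker_subschemeι]

/-- The locus where `J` is contained in the ideal of a finite locally free subscheme `I` is closed. -/
theorem exists_le_locus {T : Over S} (I J : (PicF.XT f T).IdealSheafData)
    (hI : Mor2.IsFinLocFree (I.subschemeι ≫ PicF.XTproj f T)) :
    ∃ (Z : Scheme.{u}) (i : Z ⟶ T.left), IsClosedImmersion i ∧
      ∀ (T' : Over S) (g : T' ⟶ T),
        _root_.HilbD.pull f g J ≤ _root_.HilbD.pull f g I ↔ ∃ z : T'.left ⟶ Z, z ≫ i = g.left := by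
  obtain ⟨Z, i, hi, hiff⟩ := exists_vanishing_locus (I.subschemeι ≫ PicF.XTproj f T) hI (J.comap I.subschemeι)
  refine ⟨Z, i, hi, fun T' g => ?_⟩
  rw [← hiff]
  obtain ⟨ψ, hψ, hsq⟩ := exists_isPullback_pull f g I
  refine Iff.trans ?_ (vanishes_iff_of_isPullback (J.comap I.subschemeι) hsq).symm
  rw [le_iff_comap_subschemeι, pull_eq_comap f g J, ← Scheme.IdealSheafData.comap_comp,
    ← Scheme.IdealSheafData.comap_comp, hψ]

/-- The locus where two families agree is closed. -/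
theorem exists_eq_locus {T : Over S} (I J : _root_.HilbD.Obj f d T) :
    ∃ (Z : Scheme.{u}) (i : Z ⟶ T.left), IsClosedImmersion i ∧
      ∀ (T' : Over S) (g : T' ⟶ T),
        _root_.HilbD.pull f g J.1 = _root_.HilbD.pull f g I.1 ↔ ∃ z : T'.left ⟶ Z, z ≫ i = g.left := by
  obtain ⟨Z₁, i₁, hi₁, h₁⟩ := exists_le_locus f I.1 J.1 I.2.1
  obtain ⟨Z₂, i₂, hi₂, h₂⟩ := exists_le_locus f J.1 I.1 J.2.1
  haveI : IsClosedImmersion (pullback.fst i₁ i₂ ≫ i₁) :=
    haveI : IsClosedImmersion (pullback.fst i₁ i₂) := MorphismProperty.pullback_fst _ _ hi₂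
    inferInstance
  refine ⟨pullback i₁ i₂, pullback.fst i₁ i₂ ≫ i₁, inferInstance, fun T' g => ?_⟩
  rw [le_antisymm_iff, h₁, h₂]
  constructor
  · rintro ⟨⟨z, hz⟩, ⟨w, hw⟩⟩
    exact ⟨pullback.lift z w (hz.trans hw.symm), by rw [pullback.lift_fst_assoc, hz]⟩
  · rintro ⟨z, hz⟩
    exact ⟨⟨z ≫ pullback.fst i₁ i₂, by rw [Category.assoc, hz]⟩,
      ⟨z ≫ pullback.snd i₁ i₂, by rw [Category.assoc, ← pullback.condition, hz]⟩⟩

end Groth.Agent.HilbD
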