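import Mathlib

/-!
# Coordinate charts of the Hilbert functor of points of an affine scheme: algebra
-/

set_option autoImplicit false

universe u

open TensorProduct

noncomputable section

namespace Groth.Agent.HilbD

section Ring

variable (R : Type u) [CommRing R] {B : Type u} [CommRing B] [Algebra R B] {d : ℕ} (m : Fin d → B)

/-- `L` records the coordinates, in the basis `m`, of the images of the elements of `B` in an algebra. -/
structure IsCoord {A : Type u} [CommRing A] [Algebra R A] (L : B → Fin d → A) : Prop where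
  map_add : ∀ b b', L (b + b') = L b + L b'
  map_smul : ∀ (r : R) b, L (r • b) = algebraMap R A r • L b
  map_basis : ∀ i, L (m i) = Pi.single i 1
  map_mul : ∀ b b' k, L (b * b') k = ∑ i, ∑ j, L b i * L b' j * L (m i * m j) k

open MvPolynomial in
/-- The relations of the chart. -/
def chartRel : Set (MvPolynomial (B × Fin d) R) :=
  {p | (∃ b b' k, p = X (b + b', k) - (X (b, k) + X (b', k))) ∨
    (∃ (r : R) (b : B) (k : Fin d), p = X (r • b, k) - C r * X (b, k)) ∨
    (∃ i k, p = X (m i, k) - Pi.single (M := fun _ : Fin d => MvPolynomial (B × Fin d) R) i 1 k) ∨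
    (∃ b b' k, p = X (b * b', k) - ∑ i, ∑ j, X (b, i) * X (b', j) * X (m i * m j, k))}

/-- The coordinate ring of the chart. -/
abbrev ChartRing : Type u := MvPolynomial (B × Fin d) R ⧸ Ideal.span (chartRel R m)

/-- The universal coordinates. -/
def chartCoord (b : B) (k : Fin d) : ChartRing R m := Ideal.Quotient.mk _ (MvPolynomial.X (b, k))

theorem isCoord_chartCoord : IsCoord R m (chartCoord R m) := by
  have h : ∀ p q, p - q ∈ chartRel R m →
      (Ideal.Quotient.mk (Ideal.span (chartRel R m)) p) = Ideal.Quotient.mk _ q :=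
    fun p q hp => Ideal.Quotient.eq.mpr (Ideal.subset_span hp)
  refine ⟨fun b b' => funext fun k => ?_, fun r b => funext fun k => ?_, fun i => funext fun k => ?_, fun b b' k => ?_⟩
  · rw [Pi.add_apply, chartCoord, chartCoord, chartCoord, ← map_add]
    exact h _ _ (Or.inl ⟨b, b', k, rfl⟩)
  · rw [Pi.smul_apply, smul_eq_mul, IsScalarTower.algebraMap_apply R (MvPolynomial (B × Fin d) R) (ChartRing R m),
      Ideal.Quotient.algebraMap_eq, chartCoord, chartCoord, ← map_mul, MvPolynomial.algebraMap_eq]
    exact h _ _ (Or.inr (Or.inl ⟨r, b, k, rfl⟩))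
  · refine (h _ _ (Or.inr (Or.inr (Or.inl ⟨i, k, rfl⟩)))).trans ?_
    by_cases hk : k = i
    · subst hk; simp
    · simp [hk]
  · simp only [chartCoord, ← map_mul, ← map_sum]
    exact h _ _ (Or.inr (Or.inr (Or.inr ⟨b, b', k, rfl⟩)))

variable {R m} {A : Type u} [CommRing A] [Algebra R A]

theorem IsCoord.exists_hom {L : B → Fin d → A} (hL : IsCoord R m L) :
    ∃ φ : ChartRing R m →ₐ[R] A, ∀ b k, φ (chartCoord R m b k) = L b k := by
  let φ₀ : MvPolynomial (B × Fin d) R →ₐ[R] A := MvPolynomial.aeval fun p => L p.1 p.2
  refine ⟨Ideal.Quotient.liftₐ _ φ₀ fun p hp => ?_, fun b k => ?_⟩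
  · have : Ideal.span (chartRel R m) ≤ RingHom.ker φ₀ := by
      rw [Ideal.span_le]
      rintro p (⟨b, b', k, rfl⟩ | ⟨r, b, k, rfl⟩ | ⟨i, k, rfl⟩ | ⟨b, b', k, rfl⟩)
      · simp [φ₀, hL.map_add]
      · show φ₀ _ = 0
        simp only [φ₀, map_sub, _root_.map_mul, MvPolynomial.aeval_X, MvPolynomial.aeval_C, hL.map_smul, Pi.smul_apply, smul_eq_mul, sub_self]
      · by_cases hk : k = i
        · subst hk; simp [φ₀, hL.map_basis]
        · simp [φ₀, hL.map_basis, hk]
      · show φ₀ _ = 0
        simp only [φ₀, map_sub, map_sum, _root_.map_mul, MvPolynomial.aeval_X]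
        rw [hL.map_mul b b' k, sub_self]
    exact this hp
  · exact MvPolynomial.aeval_X _ _

theorem chartHom_ext {φ ψ : ChartRing R m →+* A} (h₀ : ∀ r, φ (algebraMap R _ r) = ψ (algebraMap R _ r))
    (h : ∀ b k, φ (chartCoord R m b k) = ψ (chartCoord R m b k)) : φ = ψ := by
  refine Ideal.Quotient.ringHom_ext (MvPolynomial.ringHom_ext (fun r => ?_) fun p => h p.1 p.2)
  exact h₀ r

theorem IsCoord.map {L : B → Fin d → A} (hL : IsCoord R m L) {A' : Type u} [CommRing A'] [Algebra R A']
    (φ : A →+* A') (hφ : ∀ r, φ (algebraMap R A r) = algebraMap R A' r) :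
    IsCoord R m (fun b k => φ (L b k)) := by
  refine ⟨fun b b' => funext fun k => ?_, fun r b => funext fun k => ?_, fun i => funext fun k => ?_, fun b b' k => ?_⟩
  · simp [hL.map_add]
  · show φ (L (r • b) k) = algebraMap R A' r * φ (L b k)
    rw [hL.map_smul, Pi.smul_apply, smul_eq_mul, _root_.map_mul, hφ]
  · rw [hL.map_basis]
    by_cases hk : k = i
    · subst hk; simp
    · simp [hk]
  · show φ (L (b * b') k) = _
    rw [hL.map_mul b b' k]
    simp only [map_sum, _root_.map_mul]

end Ring

section Modules

variable {A : Type u} [CommRing A] {Q : Type u} [AddCommGroup Q] [Module A Q]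

/-- A generating family of `d` elements of a projective module of rank `d` is a basis. -/
theorem bijective_of_surjective_of_rank [Module.Finite A Q] [Module.Projective A Q] {d : ℕ}
    (hrank : ∀ p : PrimeSpectrum A, Module.rankAtStalk (R := A) Q p = d) (v : Fin d → Q)
    (hv : Function.Surjective (Fintype.linearCombination A v)) :
    Function.Bijective (Fintype.linearCombination A v) := by
  refine ⟨?_, hv⟩
  set π := Fintype.linearCombination A v
  obtain ⟨s, hs⟩ := Module.projective_lifting_property π LinearMap.id hv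
  have hs' : ∀ q, π (s q) = q := fun q => congrArg (fun l : Q →ₗ[A] Q => l q) hs
  let K := LinearMap.ker π
  let p : (Fin d → A) →ₗ[A] K := LinearMap.codRestrict K (LinearMap.id - s.comp π) fun x => by
    simp [K, hs']
  have hp : ∀ k : K, p k = k := fun ⟨k, hk⟩ => Subtype.ext (by
    have hk' : π k = 0 := hk
    simp [p, hk'])
  let e : (Fin d → A) ≃ₗ[A] K × Q := LinearEquiv.ofLinearMap (p.prod π) (LinearMap.coprod K.subtype s)
    (LinearMap.ext fun ⟨k, q⟩ => by
      obtain ⟨k, hk⟩ := k
      have hk' : π k = 0 := hk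
      refine Prod.ext (Subtype.ext ?_) ?_
      · simp [p, hs', hk']
      · simp [hs', hk'])
    (LinearMap.ext fun x => by simp [p])
  haveI : Module.Finite A (K × Q) := Module.Finite.equiv e
  haveI : Module.Projective A (K × Q) := Module.Projective.of_equiv e
  haveI : Module.Finite A K := Module.Finite.of_surjective p fun k => ⟨k, hp k⟩
  haveI : Module.Projective A K := Module.Projective.of_split K.subtype p (LinearMap.ext hp)
  have hK : Module.rankAtStalk (R := A) K = 0 := by
    funext P
    haveI : Nontrivial A := P.nontrivial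
    have h1 := congrFun (Module.rankAtStalk_eq_of_equiv e) P
    rw [Module.rankAtStalk_prod, Pi.add_apply, hrank P, Module.rankAtStalk_eq_finrank_of_free] at h1
    simp at h1
    simp only [Pi.zero_apply]
    omega
  haveI : Subsingleton K := (Module.rankAtStalk_eq_zero_iff_subsingleton).mp hK
  rw [← LinearMap.ker_eq_bot]
  exact Submodule.subsingleton_iff_eq_bot.mp this

/-- If a family generates after some base change, it generates near the point below. -/
theorem exists_surjective_of_baseChange [Module.Finite A Q] {d : ℕ} (v : Fin d → Q) (A' : Type u)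
    [CommRing A'] [Algebra A A'] (P' : PrimeSpectrum A')
    (h : Function.Surjective ((Fintype.linearCombination A v).lTensor A')) :
    ∃ g : A, g ∉ (P'.comap (algebraMap A A')).asIdeal ∧
      ∀ (A'' : Type u) [CommRing A''] [Algebra A A''], IsUnit (algebraMap A A'' g) →
        Function.Surjective ((Fintype.linearCombination A v).lTensor A'') := by
  set π := Fintype.linearCombination A v
  let C := Q ⧸ LinearMap.range π
  set P := P'.comap (algebraMap A A')
  have hC : Subsingleton (A' ⊗[A] C) := by
    refine subsingleton_of_forall_eq 0 fun z => ?_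
    obtain ⟨w, rfl⟩ := LinearMap.lTensor_surjective A' (LinearMap.range π).mkQ_surjective z
    obtain ⟨y, rfl⟩ := h w
    rw [← LinearMap.lTensor_comp_apply, show (LinearMap.range π).mkQ.comp π = 0 from
      LinearMap.ext fun x => (Submodule.Quotient.mk_eq_zero _).mpr ⟨x, rfl⟩, LinearMap.lTensor_zero,
      LinearMap.zero_apply]
  have hsupp : P ∉ Module.support A C := by
    rw [Module.mem_support_iff_nontrivial_residueField_tensorProduct, not_nontrivial_iff_subsingleton]
    letI : Algebra P.asIdeal.ResidueField P'.asIdeal.ResidueField :=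
      (Ideal.ResidueField.map P.asIdeal P'.asIdeal (algebraMap A A') rfl).toAlgebra
    haveI : IsScalarTower A P.asIdeal.ResidueField P'.asIdeal.ResidueField :=
      IsScalarTower.of_algebraMap_eq fun x => by
        rw [RingHom.algebraMap_toAlgebra, Ideal.ResidueField.map_algebraMap, ← IsScalarTower.algebraMap_apply]
    haveI : Subsingleton (P'.asIdeal.ResidueField ⊗[A] C) :=
      (TensorProduct.AlgebraTensorModule.cancelBaseChange A A' A' P'.asIdeal.ResidueField C).symm.toEquiv.subsingleton
    haveI : Subsingleton (P'.asIdeal.ResidueField ⊗[P.asIdeal.ResidueField] (P.asIdeal.ResidueField ⊗[A] C)) :=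
      (TensorProduct.AlgebraTensorModule.cancelBaseChange A P.asIdeal.ResidueField P.asIdeal.ResidueField
        P'.asIdeal.ResidueField C).toEquiv.subsingleton
    exact Module.FaithfullyFlat.lTensor_reflects_triviality P.asIdeal.ResidueField P'.asIdeal.ResidueField _
  rw [Module.support_eq_zeroLocus, PrimeSpectrum.mem_zeroLocus, Set.not_subset] at hsupp
  obtain ⟨g, hg, hgP⟩ := hsupp
  refine ⟨g, hgP, fun A'' _ _ hu => ?_⟩
  intro z
  obtain ⟨u, hu⟩ := hu
  have hgz : ∀ w : A'' ⊗[A] Q, algebraMap A A'' g • w ∈ LinearMap.range (π.lTensor A'') := fun w => by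
    induction w using TensorProduct.induction_on with
    | zero => rw [smul_zero]; exact Submodule.zero_mem _
    | tmul a q =>
      have hq : g • q ∈ LinearMap.range π := by
        rw [← Submodule.Quotient.mk_eq_zero, Submodule.Quotient.mk_smul]
        exact Module.mem_annihilator.mp hg _
      obtain ⟨y, hy⟩ := hq
      refine ⟨a ⊗ₜ y, ?_⟩
      rw [LinearMap.lTensor_tmul, hy, ← TensorProduct.smul_tmul, algebraMap_smul, TensorProduct.smul_tmul']
    | add x y hx hy => rw [smul_add]; exact Submodule.add_mem _ hx hy
  obtain ⟨y, hy⟩ := hgz (((u⁻¹ : A''ˣ) : A'') • z)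
  exact ⟨y, by rw [hy, smul_smul, ← hu, Units.mul_inv, one_smul]⟩

/-- A spanning set of a vector space contains a basis. -/
theorem exists_basis_of_span {k V : Type u} [Field k] [AddCommGroup V] [Module k V] [Module.Finite k V]
    {ι : Type u} (w : ι → V) (hw : Submodule.span k (Set.range w) = ⊤) {d : ℕ} (hd : Module.finrank k V = d) :
    ∃ e : Fin d → ι, Function.Bijective (Fintype.linearCombination k (w ∘ e)) := by
  obtain ⟨b, hb, hspan, hli⟩ := exists_linearIndependent k (Set.range w)
  rw [hw] at hspan
  let B₀ := Module.Basis.mk hli (by rw [Subtype.range_coe]; exact hspan.ge)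
  haveI : Fintype b := FiniteDimensional.fintypeBasisIndex B₀
  have hcard : Fintype.card b = d := by rw [← Module.finrank_eq_card_basis B₀, hd]
  let eb : Fin d ≃ b := (finCongr hcard.symm).trans (Fintype.equivFin b).symm
  choose e he using fun i => hb (eb i).2
  refine ⟨e, ?_⟩
  have hwe : w ∘ e = B₀.reindex eb.symm := funext fun i => by simp [he, B₀]
  rw [hwe]
  have : (Fintype.linearCombination k (B₀.reindex eb.symm)) = (B₀.reindex eb.symm).equivFun.symm.toLinearMap :=
    LinearMap.ext fun c => by
      rw [Fintype.linearCombination_apply, LinearEquiv.coe_coe, Module.Basis.equivFun_symm_apply]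
  rw [this]
  exact LinearEquiv.bijective _

end Modules

end Groth.Agent.HilbD
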