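import Groth.Agent.HilbD.Basic
import Groth.Agent.HilbD.ChartRing

/-!
# Coordinate charts of the Hilbert functor of points of an affine scheme: geometry
-/

set_option autoImplicit false

universe u

open CategoryTheory CategoryTheory.Limits AlgebraicGeometry TensorProduct

noncomputable section

namespace Groth.Agent.HilbD

variable {X S : Scheme.{u}} (f : X ⟶ S) {d : ℕ}

/-- The structure map of a family. -/
abbrev qW {T : Over S} (W : _root_.HilbD.Obj f d T) : W.1.subscheme ⟶ T.left :=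
  W.1.subschemeι ≫ PicF.XTproj f T

/-- The map of a family to `X`. -/
abbrev xW {T : Over S} (W : _root_.HilbD.Obj f d T) : W.1.subscheme ⟶ X :=
  W.1.subschemeι ≫ pullback.fst f T.hom

/-- The candidate basis map. -/
def chartMap {T : Over S} (W : _root_.HilbD.Obj f d T) (m : Fin d → Γ(X, ⊤)) (c : Fin d → Γ(T.left, ⊤)) :
    Γ(W.1.subscheme, ⊤) :=
  ∑ k, (qW f W).appTop.hom (c k) * (xW f W).appTop.hom (m k)

/-- `m` gives a basis of the family. -/
def Good {T : Over S} (W : _root_.HilbD.Obj f d T) (m : Fin d → Γ(X, ⊤)) : Prop :=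
  Function.Bijective (chartMap f W m)

/-- The coordinates of a good family. -/
def chartL {T : Over S} {W : _root_.HilbD.Obj f d T} {m : Fin d → Γ(X, ⊤)} (hG : Good f W m)
    (b : Γ(X, ⊤)) : Fin d → Γ(T.left, ⊤) :=
  (Equiv.ofBijective _ hG).symm ((xW f W).appTop.hom b)

theorem chartMap_chartL {T : Over S} {W : _root_.HilbD.Obj f d T} {m : Fin d → Γ(X, ⊤)} (hG : Good f W m)
    (b : Γ(X, ⊤)) : chartMap f W m (chartL f hG b) = (xW f W).appTop.hom b :=
  (Equiv.ofBijective _ hG).apply_symm_apply _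

theorem qW_comp {T : Over S} (W : _root_.HilbD.Obj f d T) (r : Γ(S, ⊤)) :
    (qW f W).appTop.hom (T.hom.appTop.hom r) = (xW f W).appTop.hom (f.appTop.hom r) := by
  have h : qW f W ≫ T.hom = xW f W ≫ f := by
    rw [Category.assoc, Category.assoc]
    exact congrArg (W.1.subschemeι ≫ ·) pullback.condition.symm
  rw [← CommRingCat.comp_apply, ← CommRingCat.comp_apply, ← Scheme.Hom.comp_appTop, ← Scheme.Hom.comp_appTop, h]

theorem isCoord_chartL {T : Over S} {W : _root_.HilbD.Obj f d T} {m : Fin d → Γ(X, ⊤)} (hG : Good f W m) :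
    letI := f.appTop.hom.toAlgebra
    letI := T.hom.appTop.hom.toAlgebra
    IsCoord Γ(S, ⊤) m (chartL f hG) := by
  letI := f.appTop.hom.toAlgebra
  letI := T.hom.appTop.hom.toAlgebra
  refine ⟨fun b b' => hG.1 ?_, fun r b => hG.1 ?_, fun i => hG.1 ?_, fun b b' k => ?_⟩
  · rw [chartMap_chartL, map_add, ← chartMap_chartL f hG b, ← chartMap_chartL f hG b']
    simp [chartMap, add_mul, Finset.sum_add_distrib]
  · rw [chartMap_chartL, Algebra.smul_def, map_mul, ← chartMap_chartL f hG b, RingHom.algebraMap_toAlgebra,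
      ← qW_comp, chartMap, chartMap, Finset.mul_sum]
    refine Finset.sum_congr rfl fun k _ => ?_
    rw [Pi.smul_apply, smul_eq_mul, map_mul, RingHom.algebraMap_toAlgebra, mul_assoc]
  · rw [chartMap_chartL, chartMap, Finset.sum_eq_single i]
    · simp
    · intro k _ hk
      simp [hk]
    · intro h
      exact absurd (Finset.mem_univ i) h
  · have h : chartL f hG (b * b') = fun k => ∑ i, ∑ j, chartL f hG b i * chartL f hG b' j * chartL f hG (m i * m j) k := by
      refine hG.1 ?_
      rw [chartMap_chartL, map_mul, ← chartMap_chartL f hG b, ← chartMap_chartL f hG b']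
      simp only [chartMap, map_sum, map_mul, Finset.sum_mul]
      rw [Finset.sum_comm]
      refine Finset.sum_congr rfl fun i _ => ?_
      rw [Finset.mul_sum, Finset.sum_comm]
      refine Finset.sum_congr rfl fun j _ => ?_
      have h2 := chartMap_chartL f hG (m i * m j)
      rw [map_mul, chartMap] at h2
      rw [mul_mul_mul_comm, ← h2, Finset.mul_sum]
      simp only [mul_assoc]
    exact congrFun h k

instance isAffineHom_qW {T : Over S} (W : _root_.HilbD.Obj f d T) : IsFinite (qW f W) := W.2.1.1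

theorem isAffine_subscheme {T : Over S} [IsAffine T.left] (W : _root_.HilbD.Obj f d T) : IsAffine W.1.subscheme :=
  isAffine_of_isAffineHom (qW f W)

theorem pull_square {T T' : Over S} (a : T' ⟶ T) (W : _root_.HilbD.Obj f d T) :
    ∃ ψ : (pullObj f d a W).1.subscheme ⟶ W.1.subscheme,
      IsPullback ψ (qW f (pullObj f d a W)) (qW f W) a.left ∧
      ψ ≫ xW f W = xW f (pullObj f d a W) := by
  obtain ⟨ψ, hψ, hsq⟩ := exists_isPullback_pull f a W.1
  refine ⟨ψ, hsq, ?_⟩
  show ψ ≫ W.1.subschemeι ≫ pullback.fst f T.hom = (_root_.HilbD.pull f a W.1).subschemeι ≫ pullback.fst f T'.hom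
  rw [← Category.assoc, hψ, Category.assoc, XTmap_fst]

theorem chartMap_pull {T T' : Over S} (a : T' ⟶ T) (W : _root_.HilbD.Obj f d T) (m : Fin d → Γ(X, ⊤))
    {ψ : (pullObj f d a W).1.subscheme ⟶ W.1.subscheme}
    (hsq : IsPullback ψ (qW f (pullObj f d a W)) (qW f W) a.left)
    (hx : ψ ≫ xW f W = xW f (pullObj f d a W)) (c : Fin d → Γ(T.left, ⊤)) :
    chartMap f (pullObj f d a W) m (fun k => a.left.appTop.hom (c k)) = ψ.appTop.hom (chartMap f W m c) := by
  simp only [chartMap, map_sum, map_mul]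
  refine Finset.sum_congr rfl fun k _ => ?_
  congr 1
  · rw [← CommRingCat.comp_apply, ← CommRingCat.comp_apply, ← Scheme.Hom.comp_appTop, ← Scheme.Hom.comp_appTop, hsq.w]
  · rw [← CommRingCat.comp_apply, ← Scheme.Hom.comp_appTop, hx]

theorem good_pull {T T' : Over S} [IsAffine T.left] [IsAffine T'.left] (a : T' ⟶ T)
    {W : _root_.HilbD.Obj f d T} {m : Fin d → Γ(X, ⊤)} (hG : Good f W m) : Good f (pullObj f d a W) m := by
  haveI := isAffine_subscheme f W
  obtain ⟨ψ, hsq, hx⟩ := pull_square f a W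
  letI : Algebra Γ(T.left, ⊤) Γ(T'.left, ⊤) := a.left.appTop.hom.toAlgebra
  letI : Algebra Γ(T.left, ⊤) Γ(W.1.subscheme, ⊤) := (qW f W).appTop.hom.toAlgebra
  letI : Algebra Γ(W.1.subscheme, ⊤) Γ((pullObj f d a W).1.subscheme, ⊤) := ψ.appTop.hom.toAlgebra
  letI : Algebra Γ(T'.left, ⊤) Γ((pullObj f d a W).1.subscheme, ⊤) := (qW f (pullObj f d a W)).appTop.hom.toAlgebra
  letI : Algebra Γ(T.left, ⊤) Γ((pullObj f d a W).1.subscheme, ⊤) :=
    (a.left.appTop ≫ (qW f (pullObj f d a W)).appTop).hom.toAlgebra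
  haveI : IsScalarTower Γ(T.left, ⊤) Γ(T'.left, ⊤) Γ((pullObj f d a W).1.subscheme, ⊤) :=
    IsScalarTower.of_algebraMap_eq fun _ => rfl
  have hw : (qW f W).appTop ≫ ψ.appTop = a.left.appTop ≫ (qW f (pullObj f d a W)).appTop := by
    rw [← Scheme.Hom.comp_appTop, ← Scheme.Hom.comp_appTop, hsq.w]
  haveI : IsScalarTower Γ(T.left, ⊤) Γ(W.1.subscheme, ⊤) Γ((pullObj f d a W).1.subscheme, ⊤) :=
    IsScalarTower.of_algebraMap_eq fun r => (ConcreteCategory.congr_hom hw r).symm
  haveI : Algebra.IsPushout Γ(T.left, ⊤) Γ(T'.left, ⊤) Γ(W.1.subscheme, ⊤) Γ((pullObj f d a W).1.subscheme, ⊤) :=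
    CommRingCat.isPushout_iff_isPushout.1 (isPushout_appTop_of_isPullback hsq).flip
  have hbc : IsBaseChange Γ(T'.left, ⊤)
      (IsScalarTower.toAlgHom Γ(T.left, ⊤) Γ(W.1.subscheme, ⊤) Γ((pullObj f d a W).1.subscheme, ⊤)).toLinearMap :=
    Algebra.IsPushout.out
  let lin : (Fin d → Γ(T.left, ⊤)) →ₗ[Γ(T.left, ⊤)] Γ(W.1.subscheme, ⊤) :=
    Fintype.linearCombination Γ(T.left, ⊤) fun k => (xW f W).appTop.hom (m k)
  have hlin : ∀ c, lin c = chartMap f W m c := fun c => by
    simp only [lin, Fintype.linearCombination_apply, chartMap, Algebra.smul_def]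
    rfl
  have hlb : Function.Bijective lin := by
    rw [show (lin : _ → _) = chartMap f W m from funext hlin]; exact hG
  let bQ : Module.Basis (Fin d) Γ(T.left, ⊤) Γ(W.1.subscheme, ⊤) :=
    Module.Basis.ofEquivFun (LinearEquiv.ofBijective lin hlb).symm
  let b' : Module.Basis (Fin d) Γ(T'.left, ⊤) Γ((pullObj f d a W).1.subscheme, ⊤) :=
    (bQ.baseChange Γ(T'.left, ⊤)).map hbc.equiv
  have hb' : ∀ k, b' k = (xW f (pullObj f d a W)).appTop.hom (m k) := fun k => by
    have hk : bQ k = (xW f W).appTop.hom (m k) := by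
      simp [bQ, lin, Fintype.linearCombination_apply_single]
    simp only [b', Module.Basis.map_apply, Module.Basis.baseChange_apply, hk]
    rw [IsBaseChange.equiv_tmul, one_smul]
    show ψ.appTop.hom _ = _
    rw [← CommRingCat.comp_apply, ← Scheme.Hom.comp_appTop, hx]
  have hmap : chartMap f (pullObj f d a W) m = b'.equivFun.symm := funext fun c => by
    rw [Module.Basis.equivFun_symm_apply]
    simp only [chartMap, hb', Algebra.smul_def]
    rfl
  show Function.Bijective (chartMap f (pullObj f d a W) m)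
  rw [hmap]
  exact b'.equivFun.symm.bijective

theorem chartL_pull {T T' : Over S} (a : T' ⟶ T) {W : _root_.HilbD.Obj f d T} {m : Fin d → Γ(X, ⊤)}
    (hG : Good f W m) (hG' : Good f (pullObj f d a W) m) (b : Γ(X, ⊤)) (k : Fin d) :
    chartL f hG' b k = a.left.appTop.hom (chartL f hG b k) := by
  obtain ⟨ψ, hsq, hx⟩ := pull_square f a W
  refine congrFun (hG'.1 (a₂ := fun k => a.left.appTop.hom (chartL f hG b k)) ?_) k
  rw [chartMap_chartL, chartMap_pull f a W m hsq hx, chartMap_chartL, ← CommRingCat.comp_apply,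
    ← Scheme.Hom.comp_appTop, hx]

section Affine

variable [IsAffine X] [IsAffine S]

/-- The product structure on the sections of `X_T`. -/
theorem isBaseChange_XT (T : Over S) [IsAffine T.left] :
    letI := f.appTop.hom.toAlgebra
    letI := T.hom.appTop.hom.toAlgebra
    letI := (pullback.fst f T.hom).appTop.hom.toAlgebra
    letI := (PicF.XTproj f T).appTop.hom.toAlgebra
    letI := (T.hom.appTop ≫ (PicF.XTproj f T).appTop).hom.toAlgebra
    ∃ (_ : IsScalarTower Γ(S, ⊤) Γ(T.left, ⊤) Γ(PicF.XT f T, ⊤))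
      (_ : IsScalarTower Γ(S, ⊤) Γ(X, ⊤) Γ(PicF.XT f T, ⊤)),
      IsBaseChange Γ(T.left, ⊤) (IsScalarTower.toAlgHom Γ(S, ⊤) Γ(X, ⊤) Γ(PicF.XT f T, ⊤)).toLinearMap := by
  letI := f.appTop.hom.toAlgebra
  letI := T.hom.appTop.hom.toAlgebra
  letI := (pullback.fst f T.hom).appTop.hom.toAlgebra
  letI := (PicF.XTproj f T).appTop.hom.toAlgebra
  letI := (T.hom.appTop ≫ (PicF.XTproj f T).appTop).hom.toAlgebra
  haveI h1 : IsScalarTower Γ(S, ⊤) Γ(T.left, ⊤) Γ(PicF.XT f T, ⊤) := IsScalarTower.of_algebraMap_eq fun _ => rfl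
  have hw : f.appTop ≫ (pullback.fst f T.hom).appTop = T.hom.appTop ≫ (PicF.XTproj f T).appTop := by
    rw [← Scheme.Hom.comp_appTop, ← Scheme.Hom.comp_appTop]
    exact congrArg Scheme.Hom.appTop pullback.condition
  haveI h2 : IsScalarTower Γ(S, ⊤) Γ(X, ⊤) Γ(PicF.XT f T, ⊤) :=
    IsScalarTower.of_algebraMap_eq fun r => (ConcreteCategory.congr_hom hw r).symm
  haveI : Algebra.IsPushout Γ(S, ⊤) Γ(T.left, ⊤) Γ(X, ⊤) Γ(PicF.XT f T, ⊤) :=
    CommRingCat.isPushout_iff_isPushout.1 (isPushout_appTop_of_isPullback (IsPullback.of_hasPullback f T.hom)).flip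
  exact ⟨h1, h2, Algebra.IsPushout.out⟩

theorem mul_induction (T : Over S) [IsAffine T.left] {P : Γ(PicF.XT f T, ⊤) → Prop} (h0 : P 0)
    (hmul : ∀ a b, P ((PicF.XTproj f T).appTop.hom a * (pullback.fst f T.hom).appTop.hom b))
    (hadd : ∀ x y, P x → P y → P (x + y)) (x : Γ(PicF.XT f T, ⊤)) : P x := by
  letI := f.appTop.hom.toAlgebra
  letI := T.hom.appTop.hom.toAlgebra
  letI := (pullback.fst f T.hom).appTop.hom.toAlgebra
  letI := (PicF.XTproj f T).appTop.hom.toAlgebra
  letI := (T.hom.appTop ≫ (PicF.XTproj f T).appTop).hom.toAlgebra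
  obtain ⟨_, _, hbc⟩ := isBaseChange_XT f T
  obtain ⟨z, rfl⟩ := hbc.equiv.surjective x
  induction z using TensorProduct.induction_on with
  | zero => rwa [map_zero]
  | tmul a b =>
    rw [IsBaseChange.equiv_tmul, Algebra.smul_def]
    exact hmul a b
  | add x y hx hy => rw [map_add]; exact hadd _ _ hx hy

theorem exists_chart {T : Over S} [IsAffine T.left] {W : _root_.HilbD.Obj f d T} {m : Fin d → Γ(X, ⊤)}
    (hG : Good f W m) (p : Γ(PicF.XT f T, ⊤)) :
    ∃ c : Fin d → Γ(T.left, ⊤), W.1.subschemeι.appTop.hom p = chartMap f W m c ∧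
      ∀ (W' : _root_.HilbD.Obj f d T) (hG' : Good f W' m), chartL f hG' = chartL f hG →
        W'.1.subschemeι.appTop.hom p = chartMap f W' m c := by
  induction p using mul_induction f T with
  | h0 => exact ⟨0, by simp [chartMap], fun W' _ _ => by simp [chartMap]⟩
  | hmul a b =>
    have key : ∀ (W' : _root_.HilbD.Obj f d T) (hG' : Good f W' m),
        W'.1.subschemeι.appTop.hom ((PicF.XTproj f T).appTop.hom a * (pullback.fst f T.hom).appTop.hom b) =
          chartMap f W' m (fun k => a * chartL f hG' b k) := fun W' hG' => by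
      have h1 : W'.1.subschemeι.appTop.hom ((PicF.XTproj f T).appTop.hom a) = (qW f W').appTop.hom a := by
        rw [← CommRingCat.comp_apply, ← Scheme.Hom.comp_appTop]
      have h2 : W'.1.subschemeι.appTop.hom ((pullback.fst f T.hom).appTop.hom b) = (xW f W').appTop.hom b := by
        rw [← CommRingCat.comp_apply, ← Scheme.Hom.comp_appTop]
      rw [map_mul, h1, h2, ← chartMap_chartL f hG' b, chartMap, chartMap, Finset.mul_sum]
      simp only [map_mul, mul_assoc]
    exact ⟨fun k => a * chartL f hG b k, key W hG, fun W' hG' h => (key W' hG').trans (by rw [h])⟩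
  | hadd x y hx hy =>
    obtain ⟨c, hc, hc'⟩ := hx
    obtain ⟨e, he, he'⟩ := hy
    have key : ∀ W' : _root_.HilbD.Obj f d T,
        chartMap f W' m (c + e) = chartMap f W' m c + chartMap f W' m e := fun W' => by
      simp [chartMap, add_mul, Finset.sum_add_distrib]
    exact ⟨c + e, by rw [map_add, hc, he, key], fun W' hG' h => by rw [map_add, hc' W' hG' h, he' W' hG' h, key]⟩

theorem ideal_top_eq_ker {P : Scheme.{u}} (I : P.IdealSheafData) [IsAffine P] :
    I.ideal ⟨⊤, isAffineOpen_top P⟩ = RingHom.ker I.subschemeι.appTop.hom := by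
  rw [Scheme.Hom.appTop, ← I.ker_subschemeι_app ⟨⊤, isAffineOpen_top P⟩]
  rfl

/-- A good family is determined by its coordinates. -/
theorem eq_of_chartL_eq {T : Over S} [IsAffine T.left] {W W' : _root_.HilbD.Obj f d T} {m : Fin d → Γ(X, ⊤)}
    (hG : Good f W m) (hG' : Good f W' m) (h : chartL f hG' = chartL f hG) : W.1 = W'.1 := by
  refine Scheme.IdealSheafData.ext_of_isAffine ?_
  rw [ideal_top_eq_ker, ideal_top_eq_ker]
  ext p
  obtain ⟨c, hc, hc'⟩ := exists_chart f hG p
  simp only [RingHom.mem_ker, hc, hc' W' hG' h]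
  have z : ∀ (W'' : _root_.HilbD.Obj f d T) (_ : Good f W'' m), chartMap f W'' m c = 0 ↔ c = 0 := fun W'' hG'' => by
    refine ⟨fun h0 => hG''.1 (h0.trans ?_), fun h0 => by simp [h0, chartMap]⟩
    simp [chartMap]
  rw [z W hG, z W' hG']

end Affine

end Groth.Agent.HilbD
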