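import Groth.Agent.GITLib.DescentGeom
import Groth.Agent.HilbD.Push

/-!
# fpqc descent of closed subschemes
-/

set_option autoImplicit false

universe u

open CategoryTheory CategoryTheory.Limits AlgebraicGeometry

noncomputable section

namespace Groth.Agent.HilbD

/-- Faithfully flat quasi-compact morphisms are scheme-theoretically dominant. -/
theorem isSchDominant_of_flat_surjective {X Y : Scheme.{u}} (f : X ⟶ Y) [Flat f] [Surjective f] [QuasiCompact f] :
    IsSchemeTheoreticallyDominant f := by
  refine ⟨?_⟩
  ext U : 2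
  rw [Scheme.Hom.ker_apply, (RingHom.injective_iff_ker_eq_bot _).mp (GITLib.app_descent f U.1).1]
  rfl

theorem isSchDominant_toImage {X Y : Scheme.{u}} (c : X ⟶ Y) [QuasiCompact c] :
    IsSchemeTheoreticallyDominant c.toImage := by
  haveI : QuasiCompact c.toImage :=
    haveI : QuasiCompact (c.toImage ≫ c.imageι) := by rw [c.toImage_imageι]; infer_instance
    QuasiCompact.of_comp c.toImage c.imageι
  refine ⟨?_⟩
  refine IdealSh.Comap.ext_of_forall_exists _ _ fun x => ?_
  obtain ⟨U, hU, -⟩ := IdealSh.Comap.exists_affine_le (c.imageι x) (⊤ : Y.Opens) trivial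
  refine ⟨⟨_, U.2.preimage c.imageι⟩, hU, ?_⟩
  rw [Scheme.Hom.ker_apply, (RingHom.injective_iff_ker_eq_bot _).mp (c.toImage_app_injective (U := U))]
  rfl

/-- Pulling back and pushing forward along a faithfully flat morphism gives the ideal back. -/
theorem map_comap_of_flat {X Y : Scheme.{u}} (h : X ⟶ Y) [Flat h] [Surjective h] [QuasiCompact h]
    (I : Y.IdealSheafData) : (I.comap h).map h = I := by
  haveI := isSchDominant_of_flat_surjective (pullback.snd h I.subschemeι)
  show ((I.comap h).subschemeι ≫ h).ker = I
  rw [← Scheme.IdealSheafData.comapIso_hom_fst I h, Category.assoc, Scheme.Hom.ker_comp_of_isIso,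
    pullback.condition, Scheme.Hom.ker_comp, Scheme.Hom.ker_eq_bot, Scheme.IdealSheafData.map_bot,
    Scheme.IdealSheafData.ker_subschemeι]

/-- Scheme-theoretic images commute with flat base change. -/
theorem comap_ker_of_flat {Z A B : Scheme.{u}} (f : A ⟶ B) [Flat f] (c : Z ⟶ B) [QuasiCompact c] :
    c.ker.comap f = (pullback.fst f c).ker := by
  haveI : IsSchemeTheoreticallyDominant c.toImage := isSchDominant_toImage c
  haveI : QuasiCompact c.toImage :=
    haveI : QuasiCompact (c.toImage ≫ c.imageι) := by rw [c.toImage_imageι]; infer_instance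
    QuasiCompact.of_comp c.toImage c.imageι
  let m : pullback f c ⟶ pullback f c.imageι :=
    pullback.lift (pullback.fst f c) (pullback.snd f c ≫ c.toImage)
      (by rw [Category.assoc, c.toImage_imageι, pullback.condition])
  have hm : IsPullback (pullback.snd f c) m c.toImage (pullback.snd f c.imageι) := by
    refine IsPullback.of_bot ?_ (by simp [m, pullback.lift_snd]) (IsPullback.of_hasPullback f c.imageι).flip
    simpa [m, pullback.lift_fst] using (IsPullback.of_hasPullback f c).flip
  haveI : Flat (pullback.snd f c.imageι) := inferInstance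
  haveI : IsSchemeTheoreticallyDominant m := IsSchemeTheoreticallyDominant.of_isPullback hm
  have e : pullback.fst f c = m ≫ pullback.fst f c.imageι := (pullback.lift_fst _ _ _).symm
  refine Eq.trans ?_ (congrArg Scheme.Hom.ker e).symm
  rw [Scheme.Hom.ker_comp, Scheme.Hom.ker_eq_bot m, Scheme.IdealSheafData.map_bot]
  rfl

/-- Descent of closed subschemes along a faithfully flat quasi-compact morphism. -/
theorem comap_map_of_descent {X Y R : Scheme.{u}} (h : X ⟶ Y) [Flat h] [Surjective h] [QuasiCompact h]
    (J : X.IdealSheafData) {p₁ p₂ : R ⟶ X} (hR : IsPullback p₁ p₂ h h) (he : J.comap p₁ = J.comap p₂) :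
    (J.map h).comap h = J := by
  haveI : Flat p₁ := MorphismProperty.of_isPullback (P := @Flat) hR.flip ‹_›
  haveI : Surjective p₁ := MorphismProperty.of_isPullback (P := @Surjective) hR.flip ‹_›
  haveI : QuasiCompact p₁ := MorphismProperty.of_isPullback (P := @QuasiCompact) hR.flip ‹_›
  show (J.subschemeι ≫ h).ker.comap h = J
  rw [comap_ker_of_flat]
  have hsq : IsPullback (pullback.fst p₂ J.subschemeι ≫ p₁) (pullback.snd p₂ J.subschemeι) h (J.subschemeι ≫ h) :=
    ((IsPullback.of_hasPullback p₂ J.subschemeι).flip.paste_vert hR.flip).flip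
  rw [← Scheme.Hom.ker_comp_of_isIso hsq.isoPullback.hom, hsq.isoPullback_hom_fst,
    Scheme.Hom.ker_comp, show (pullback.fst p₂ J.subschemeι).ker = J.comap p₂ from rfl, ← he, map_comap_of_flat]

end Groth.Agent.HilbD
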