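import Groth.Agent.HilbD.Push

/-!
# The Hilbert functor of points of an open subscheme
-/

set_option autoImplicit false

universe u

open CategoryTheory CategoryTheory.Limits AlgebraicGeometry

noncomputable section

namespace Groth.Agent.HilbD

variable {X S U O : Scheme.{u}} (f : X ⟶ S) (g : U ⟶ O) (o : O ⟶ S) (j : U ⟶ X) (w : j ≫ f = g ≫ o)

/-- An `O`-scheme as an `S`-scheme. -/
abbrev toS (T : Over O) : Over S := Over.mk (T.hom ≫ o)

/-- A morphism of `O`-schemes as a morphism of `S`-schemes. -/
abbrev toSMap {T T' : Over O} (a : T' ⟶ T) : toS o T' ⟶ toS o T :=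
  Over.homMk a.left (by show a.left ≫ T.hom ≫ o = T'.hom ≫ o; rw [← Category.assoc, Over.w a])

/-- `U ×_O T ⟶ X ×_S T`. -/
abbrev openT (T : Over O) : PicF.XT g T ⟶ PicF.XT f (toS o T) :=
  pullback.map g T.hom f (T.hom ≫ o) j (𝟙 _) o w.symm (by simp)

theorem openT_fst (T : Over O) :
    openT f g o j w T ≫ pullback.fst f (toS o T).hom = pullback.fst g T.hom ≫ j := pullback.lift_fst _ _ _

theorem openT_proj (T : Over O) : openT f g o j w T ≫ PicF.XTproj f (toS o T) = PicF.XTproj g T :=
  (pullback.lift_snd _ _ _).trans (Category.comp_id _)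

variable [IsOpenImmersion o]

theorem isPullback_openT (T : Over O) :
    IsPullback (pullback.fst g T.hom) (openT f g o j w T) j (pullback.fst f (toS o T).hom) := by
  refine IsPullback.of_bot ?_ (openT_fst f g o j w T).symm (IsPullback.of_hasPullback f (T.hom ≫ o))
  have h : openT f g o j w T ≫ pullback.snd f (T.hom ≫ o) = pullback.snd g T.hom := openT_proj f g o j w T
  rw [h, w]
  have hc : pullback.fst g T.hom ≫ g = pullback.snd g T.hom ≫ T.hom := pullback.condition
  refine ⟨⟨by rw [reassoc_of% hc]⟩, ⟨PullbackCone.IsLimit.mk _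
    (fun s => pullback.lift s.fst s.snd ((cancel_mono o).mp (by simpa using s.condition)))
    (fun s => pullback.lift_fst _ _ _) (fun s => pullback.lift_snd _ _ _) fun s m h1 h2 => ?_⟩⟩
  apply pullback.hom_ext
  · rw [pullback.lift_fst]; exact h1
  · rw [pullback.lift_snd]; exact h2

theorem openT_XTmap {T T' : Over O} (a : T' ⟶ T) :
    openT f g o j w T' ≫ PicF.XTmap f (toSMap o a) = PicF.XTmap g a ≫ openT f g o j w T := by
  apply pullback.hom_ext
  · rw [Category.assoc, XTmap_fst, openT_fst, Category.assoc, openT_fst, ← Category.assoc, XTmap_fst]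
  · show (openT f g o j w T' ≫ PicF.XTmap f (toSMap o a)) ≫ PicF.XTproj f (toS o T) =
      (PicF.XTmap g a ≫ openT f g o j w T) ≫ PicF.XTproj f (toS o T)
    rw [Category.assoc, XTmap_proj, Category.assoc, openT_proj, XTmap_proj, ← Category.assoc, openT_proj]
    rfl

theorem isPullback_openT_XTmap {T T' : Over O} (a : T' ⟶ T) :
    IsPullback (PicF.XTmap g a) (openT f g o j w T') (openT f g o j w T) (PicF.XTmap f (toSMap o a)) := by
  refine IsPullback.of_right ?_ (openT_XTmap f g o j w a).symm (isPullback_openT f g o j w T)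
  rw [XTmap_fst, XTmap_fst]
  exact isPullback_openT f g o j w T'

variable [IsOpenImmersion j]

theorem isOpenImmersion_openT (T : Over O) : IsOpenImmersion (openT f g o j w T) :=
  MorphismProperty.of_isPullback (P := @IsOpenImmersion) (isPullback_openT f g o j w T) ‹_›

theorem range_openT (T : Over O) :
    Set.range (openT f g o j w T) = pullback.fst f (toS o T).hom ⁻¹' Set.range j := by
  have h := (isPullback_openT f g o j w T).flip
  rw [← h.isoPullback_hom_fst, Scheme.Hom.comp_base, TopCat.coe_comp, Set.range_comp,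
    Set.range_eq_univ.mpr (Scheme.Hom.surjective _), Set.image_univ, Scheme.Pullback.range_fst]

variable [IsSeparated f]

theorem isClosedImmersion_openT_comp {d : ℕ} {T : Over O} (I : _root_.HilbD.Obj g d T) :
    IsClosedImmersion (I.1.subschemeι ≫ openT f g o j w T) := by
  haveI := isOpenImmersion_openT f g o j w T
  haveI : IsSeparated (PicF.XTproj f (toS o T)) := inferInstanceAs (IsSeparated (pullback.snd f (toS o T).hom))
  obtain ⟨⟨h1, -, -⟩, -⟩ := I.2
  haveI : IsFinite ((I.1.subschemeι ≫ openT f g o j w T) ≫ PicF.XTproj f (toS o T)) := by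
    rw [Category.assoc, openT_proj]; exact h1
  haveI : IsFinite (I.1.subschemeι ≫ openT f g o j w T) :=
    IsFinite.of_comp _ (PicF.XTproj f (toS o T))
  refine .of_isPreimmersion _ ?_
  exact ((I.1.subschemeι ≫ openT f g o j w T).isClosedMap).isClosed_range

/-- A family in an open subscheme as a family in the whole scheme. -/
def pushOpen {d : ℕ} {T : Over O} (I : _root_.HilbD.Obj g d T) : _root_.HilbD.Obj f d (toS o T) := by
  refine ⟨(I.1.subschemeι ≫ openT f g o j w T).ker, ?_⟩
  haveI := isClosedImmersion_openT_comp f g o j w I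
  let c := I.1.subschemeι ≫ openT f g o j w T
  haveI : IsIso c.toImage := inferInstanceAs (IsIso c.toImage)
  obtain ⟨⟨h1, h2, h3⟩, h4⟩ := I.2
  have e : c.ker.subschemeι ≫ PicF.XTproj f (toS o T) = inv c.toImage ≫ (I.1.subschemeι ≫ PicF.XTproj g T) := by
    rw [IsIso.eq_inv_comp, ← Category.assoc,
      show c.toImage ≫ c.ker.subschemeι = c from c.toImage_imageι, Category.assoc, openT_proj]
  show Mor2.IsFinLocFreeOfDeg d (c.ker.subschemeι ≫ PicF.XTproj f (toS o T))
  rw [e]
  haveI := h1; haveI := h2; haveI := h3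
  refine ⟨⟨inferInstance, inferInstance, inferInstance⟩, fun y => ?_⟩
  rw [Scheme.Hom.finrank_comp_left_of_isIso]
  exact h4 y

theorem comap_pushOpen {d : ℕ} {T : Over O} (I : _root_.HilbD.Obj g d T) :
    (pushOpen f g o j w I).1.comap (openT f g o j w T) = I.1 := by
  haveI := isOpenImmersion_openT f g o j w T
  haveI := isClosedImmersion_openT_comp f g o j w I
  show (I.1.subschemeι ≫ openT f g o j w T).ker.comap (openT f g o j w T) = I.1
  have h : IsPullback I.1.subschemeι (𝟙 I.1.subscheme) (openT f g o j w T)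
      (I.1.subschemeι ≫ openT f g o j w T) := by
    refine ⟨⟨by simp⟩, ⟨PullbackCone.IsLimit.mk _ (fun s => s.snd) (fun s => ?_) (fun s => ?_) ?_⟩⟩
    · rw [← cancel_mono (openT f g o j w T), Category.assoc, s.condition]
    · exact Category.comp_id _
    · intro s l _ h2
      simpa using h2
  rw [comap_ker_of_isPullback h, Scheme.IdealSheafData.ker_subschemeι]

theorem pull_pushOpen {d : ℕ} {T T' : Over O} (a : T' ⟶ T) (I : _root_.HilbD.Obj g d T) :
    _root_.HilbD.pull f (toSMap o a) (pushOpen f g o j w I).1 =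
      (pushOpen f g o j w (pullObj g d a I)).1 := by
  haveI := isClosedImmersion_openT_comp f g o j w I
  rw [pull_eq_comap]
  show (I.1.subschemeι ≫ openT f g o j w T).ker.comap _ =
    ((_root_.HilbD.pull g a I.1).subschemeι ≫ openT f g o j w T').ker
  rw [pull_eq_comap]
  have h1 : IsPullback ((I.1.comapIso (PicF.XTmap g a)).hom ≫ pullback.snd _ _)
      (I.1.comap (PicF.XTmap g a)).subschemeι I.1.subschemeι (PicF.XTmap g a) := by
    refine IsPullback.of_iso_pullback ⟨?_⟩ ((I.1.comapIso _) ≪≫ pullbackSymmetry _ _) ?_ ?_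
    · rw [Category.assoc, ← pullback.condition, Scheme.IdealSheafData.comapIso_hom_fst_assoc]
    · simp
    · simp
  exact comap_ker_of_isPullback (h1.paste_vert (isPullback_openT_XTmap f g o j w a)).flip

/-- The families supported in the open subscheme come from it. -/
theorem exists_pushOpen {d : ℕ} {T : Over O} (J : _root_.HilbD.Obj f d (toS o T))
    (h : ∀ z, (J.1.subschemeι ≫ pullback.fst f (toS o T).hom) z ∈ Set.range j) :
    ∃ I : _root_.HilbD.Obj g d T, (pushOpen f g o j w I).1 = J.1 := by
  haveI := isOpenImmersion_openT f g o j w T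
  have hr : Set.range J.1.subschemeι ⊆ Set.range (openT f g o j w T) := by
    rintro _ ⟨z, rfl⟩
    rw [range_openT]
    exact h z
  let l := IsOpenImmersion.lift (openT f g o j w T) J.1.subschemeι hr
  have hl : l ≫ openT f g o j w T = J.1.subschemeι := IsOpenImmersion.lift_fac _ _ _
  haveI : IsClosedImmersion (l ≫ openT f g o j w T) := by rw [hl]; infer_instance
  haveI : IsClosedImmersion l := IsClosedImmersion.of_comp l (openT f g o j w T)
  haveI : IsIso l.toImage := inferInstanceAs (IsIso l.toImage)
  have hli : l.toImage ≫ l.ker.subschemeι = l := l.toImage_imageι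
  obtain ⟨⟨h1, h2, h3⟩, h4⟩ := J.2
  have hfl : Mor2.IsFinLocFreeOfDeg d (l.ker.subschemeι ≫ PicF.XTproj g T) := by
    have e : l.ker.subschemeι ≫ PicF.XTproj g T = inv l.toImage ≫ (J.1.subschemeι ≫ PicF.XTproj f (toS o T)) := by
      rw [IsIso.eq_inv_comp, ← Category.assoc, hli, ← openT_proj f g o j w T, ← Category.assoc, hl]
    rw [e]
    haveI := h1; haveI := h2; haveI := h3
    refine ⟨⟨inferInstance, inferInstance, inferInstance⟩, fun y => ?_⟩
    rw [Scheme.Hom.finrank_comp_left_of_isIso]
    exact h4 y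
  refine ⟨⟨l.ker, hfl⟩, ?_⟩
  show (l.ker.subschemeι ≫ openT f g o j w T).ker = J.1
  rw [← Scheme.Hom.ker_comp_of_isIso l.toImage, ← Category.assoc, hli, hl,
    Scheme.IdealSheafData.ker_subschemeι]

/-- The points of a pushed family lie in the open subscheme. -/
theorem mem_range_of_pushOpen {d : ℕ} {T : Over O} (I : _root_.HilbD.Obj g d T)
    (z : (pushOpen f g o j w I).1.subscheme) :
    ((pushOpen f g o j w I).1.subschemeι ≫ pullback.fst f (toS o T).hom) z ∈ Set.range j := by
  haveI := isClosedImmersion_openT_comp f g o j w I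
  let c := I.1.subschemeι ≫ openT f g o j w T
  obtain ⟨y, rfl⟩ := c.toImage.surjective z
  refine ⟨pullback.fst g T.hom (I.1.subschemeι y), ?_⟩
  show j (pullback.fst g T.hom (I.1.subschemeι y)) = (c.ker.subschemeι ≫ pullback.fst f (toS o T).hom) (c.toImage y)
  have e : c.toImage ≫ c.ker.subschemeι ≫ pullback.fst f (toS o T).hom =
      I.1.subschemeι ≫ pullback.fst g T.hom ≫ j := by
    rw [← Category.assoc, show c.toImage ≫ c.ker.subschemeι = c from c.toImage_imageι, Category.assoc, openT_fst]
  have := congrArg (fun φ : I.1.subscheme ⟶ X => φ y) e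
  simp only [Scheme.Hom.comp_apply] at this ⊢
  exact this.symm

end Groth.Agent.HilbD
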