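import Groth.Agent.GrpScheme.ClosedRep
import Groth.Agent.IdealSh.Comap
import Groth.Prelude.Def_Mor2

/-!
# The locus where an ideal sheaf vanishes on the fibres of a finite locally free morphism
-/

set_option autoImplicit false

universe u

open CategoryTheory CategoryTheory.Limits AlgebraicGeometry TopologicalSpace TensorProduct

noncomputable section

namespace Groth.Agent.HilbD

section Algebra

variable (A : Type u) [CommRing A] {B : Type u} [CommRing B] [Algebra A B]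

/-- The ideal of values of linear forms on `J`. -/
def coeff (J : Ideal B) : Ideal A := ⨆ φ : B →ₗ[A] A, (J.restrictScalars A).map φ

theorem map_eq_bot_iff_coeff_le {A' B' : Type u} [CommRing A'] [CommRing B'] [Algebra A A'] [Algebra B B']
    [Algebra A' B'] [Algebra A B'] [IsScalarTower A A' B'] [IsScalarTower A B B'] [Algebra.IsPushout A A' B B']
    [Module.Projective A B] (J : Ideal B) :
    J.map (algebraMap B B') = ⊥ ↔ coeff A J ≤ RingHom.ker (algebraMap A A') := by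
  have hbc : IsBaseChange A' (IsScalarTower.toAlgHom A B B').toLinearMap := Algebra.IsPushout.out
  constructor
  · intro h
    refine iSup_le fun φ => ?_
    rintro _ ⟨j, hj, rfl⟩
    have h0 : algebraMap B B' j = 0 := by simpa [h] using Ideal.mem_map_of_mem (algebraMap B B') hj
    have := hbc.lift_eq ((Algebra.linearMap A A').comp φ) j
    rw [RingHom.mem_ker]
    simpa [h0] using this.symm
  · intro h
    rw [Ideal.map_eq_bot_iff_le_ker]
    intro j hj
    obtain ⟨s, hs⟩ := Module.projective_def.mp (inferInstance : Module.Projective A B)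
    rw [RingHom.mem_ker, ← hs j, Finsupp.linearCombination_apply, map_finsuppSum]
    refine Finset.sum_eq_zero fun b _ => ?_
    have hc : algebraMap A A' (s j b) = 0 :=
      h (le_iSup (fun φ : B →ₗ[A] A => (J.restrictScalars A).map φ) ((Finsupp.lapply b).comp s)
        ⟨j, hj, rfl⟩)
    show algebraMap B B' ((s j b) • id b) = 0
    rw [Algebra.smul_def, map_mul, ← IsScalarTower.algebraMap_apply, IsScalarTower.algebraMap_apply A A' B',
      hc, map_zero, zero_mul]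

end Algebra

theorem ideal_top_eq_bot_iff {P : Scheme.{u}} [IsAffine P] (I : P.IdealSheafData) :
    I = ⊥ ↔ I.ideal ⟨⊤, isAffineOpen_top P⟩ = ⊥ :=
  ⟨fun h => by rw [h]; rfl, fun h => le_bot_iff.mp (Scheme.IdealSheafData.le_of_isAffine h.le)⟩

theorem eq_bot_of_openCover {P : Scheme.{u}} (𝒰 : P.OpenCover) (I : P.IdealSheafData)
    (h : ∀ i, I.comap (𝒰.f i) = ⊥) : I = ⊥ := by
  refine IdealSh.Comap.ext_of_forall_exists _ _ fun x => ?_
  obtain ⟨y, hy⟩ := 𝒰.covers x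
  obtain ⟨W, hW, -⟩ := IdealSh.Comap.exists_affine_le y (⊤ : (𝒰.X _).Opens) trivial
  have hU : IsAffineOpen (𝒰.f _ ''ᵁ W.1) := W.2.image_of_isOpenImmersion (𝒰.f _)
  refine ⟨⟨_, hU⟩, ⟨y, hW, hy⟩, ?_⟩
  have := congrArg (fun J : (𝒰.X (𝒰.idx x)).IdealSheafData => J.ideal W) (h (𝒰.idx x))
  rw [Scheme.IdealSheafData.ideal_comap_of_isOpenImmersion] at this
  have e := congrArg (Ideal.comap ((𝒰.f (𝒰.idx x)).appIso W.1).hom.hom) this
  simp only [Ideal.comap_comap, ← CommRingCat.hom_comp, Iso.hom_inv_id, CommRingCat.hom_id, Ideal.comap_id] at e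
  rw [e]
  refine ((RingHom.ker_eq_comap_bot _).symm.trans ?_)
  exact RingHom.ker_coe_equiv ((𝒰.f (𝒰.idx x)).appIso W.1).commRingCatIsoToRingEquiv

/-- The condition that `J` vanishes on the pullback along `x`. -/
def Vanishes {W X : Scheme.{u}} (q : W ⟶ X) (J : W.IdealSheafData) ⦃T : Scheme.{u}⦄ (x : T ⟶ X) : Prop :=
  J.comap (pullback.fst q x) = ⊥

theorem vanishes_iff_of_isPullback {W X T P : Scheme.{u}} {q : W ⟶ X} (J : W.IdealSheafData) {x : T ⟶ X}
    {a : P ⟶ W} {b : P ⟶ T} (h : IsPullback a b q x) : Vanishes q J x ↔ J.comap a = ⊥ := by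
  show J.comap (pullback.fst q x) = ⊥ ↔ _
  constructor
  · intro hh
    rw [← h.isoPullback_hom_fst, Scheme.IdealSheafData.comap_comp, hh, Scheme.IdealSheafData.comap_bot]
  · intro hh
    rw [← h.isoPullback_inv_fst, Scheme.IdealSheafData.comap_comp, hh, Scheme.IdealSheafData.comap_bot]

theorem isGood_vanishes {W X : Scheme.{u}} (q : W ⟶ X) (J : W.IdealSheafData) :
    GrpScheme.ClosedRep.IsGood (Vanishes q J) where
  comp g x h := by
    show J.comap (pullback.fst q (g ≫ x)) = ⊥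
    have e : pullback.map q (g ≫ x) q x (𝟙 _) g (𝟙 _) (by simp) (by simp) ≫ pullback.fst q x =
        pullback.fst q (g ≫ x) := by simp [pullback.map, pullback.lift_fst]
    rw [← e, Scheme.IdealSheafData.comap_comp, h, Scheme.IdealSheafData.comap_bot]
  glue {T} 𝒰 x h := by
    refine eq_bot_of_openCover ((Scheme.Pullback.openCoverOfRight 𝒰 q x)) _ fun i => ?_
    rw [← Scheme.IdealSheafData.comap_comp]
    have e : (Scheme.Pullback.openCoverOfRight 𝒰 q x).f i ≫ pullback.fst q x = pullback.fst q (𝒰.f i ≫ x) := by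
      rw [Scheme.Pullback.openCoverOfRight_f]
      exact (pullback.lift_fst _ _ _).trans (Category.comp_id _)
    rw [e]
    exact h i

/-- The locus over which `J` vanishes is closed. -/
theorem exists_vanishing_locus {W X : Scheme.{u}} (q : W ⟶ X) (hq : Mor2.IsFinLocFree q) (J : W.IdealSheafData) :
    ∃ (Z : Scheme.{u}) (i : Z ⟶ X), IsClosedImmersion i ∧
      ∀ (T : Scheme.{u}) (x : T ⟶ X), J.comap (pullback.fst q x) = ⊥ ↔ ∃ z : T ⟶ Z, z ≫ i = x := by
  obtain ⟨hfin, hflat, hlfp⟩ := hq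
  refine GrpScheme.ClosedRep.exists_closed (isGood_vanishes q J) fun U₀ x₀ hx₀ =>
    ⟨1, by rw [X.basicOpen_of_isUnit isUnit_one]; exact hx₀, ?_⟩
  generalize X.affineBasicOpen (1 : Γ(X, U₀)) = U
  have hV : IsAffineOpen (q ⁻¹ᵁ U.1) := U.2.preimage q
  letI : Algebra Γ(X, U.1) Γ(W, q ⁻¹ᵁ U.1) := (q.app U.1).hom.toAlgebra
  haveI : Module.Finite Γ(X, U.1) Γ(W, q ⁻¹ᵁ U.1) := (IsFinite.finite_app q U.1 U.2 : (q.app U.1).hom.Finite)
  haveI : Module.Flat Γ(X, U.1) Γ(W, q ⁻¹ᵁ U.1) := by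
    have h1 := q.flat_appLE U.2 hV le_rfl
    rw [← Scheme.Hom.app_eq_appLE] at h1
    exact h1
  haveI : Algebra.FinitePresentation Γ(X, U.1) Γ(W, q ⁻¹ᵁ U.1) := by
    have h1 := q.finitePresentation_appLE U.2 hV le_rfl
    rw [← Scheme.Hom.app_eq_appLE] at h1
    exact h1
  haveI : Module.FinitePresentation Γ(X, U.1) Γ(W, q ⁻¹ᵁ U.1) := .of_finite_of_finitePresentation _ _
  haveI : Module.Projective Γ(X, U.1) Γ(W, q ⁻¹ᵁ U.1) := Module.Flat.projective_of_finitePresentation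
  refine ⟨coeff Γ(X, U.1) (J.ideal ⟨_, hV⟩), fun C φ => ?_⟩
  let x := Spec.map φ ≫ U.2.fromSpec
  let P := pullback q x
  haveI : IsAffineHom (pullback.snd q x) := MorphismProperty.pullback_snd _ _ inferInstance
  haveI : IsAffine P := isAffine_of_isAffineHom (pullback.snd q x)
  have hX := IsPullback.of_hasPullback q x
  have hxU : (⊤ : (Spec C).Opens) ≤ x ⁻¹ᵁ U.1 := fun t _ => by
    show x t ∈ U.1
    rw [Scheme.Hom.comp_apply]
    have : U.2.fromSpec (Spec.map φ t) ∈ Set.range U.2.fromSpec := ⟨_, rfl⟩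
    rwa [U.2.range_fromSpec] at this
  have hle : (⊤ : P.Opens) ≤ pullback.fst q x ⁻¹ᵁ (q ⁻¹ᵁ U.1) := fun t _ => by
    show q (pullback.fst q x t) ∈ U.1
    rw [← Scheme.Hom.comp_apply, pullback.condition, Scheme.Hom.comp_apply]
    exact hxU trivial
  have hUY : (⊤ : P.Opens) = pullback.fst q x ⁻¹ᵁ (q ⁻¹ᵁ U.1) ⊓ pullback.snd q x ⁻¹ᵁ ⊤ := by
    rw [Scheme.Hom.preimage_top, inf_top_eq]; exact (top_unique hle).symm
  have hpush := (isIso_pushoutSection_iff hX hxU le_rfl hUY).1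
    (isIso_pushoutSection_of_isAffineOpen hX hxU le_rfl hUY U.2 (isAffineOpen_top _) hV)
  have hcomm : q.app U.1 ≫ (pullback.fst q x).appLE (q ⁻¹ᵁ U.1) ⊤ hle =
      x.appLE U.1 ⊤ hxU ≫ (pullback.snd q x).appLE ⊤ ⊤ le_top := by
    simp only [Scheme.Hom.app_eq_appLE, Scheme.Hom.appLE_comp_appLE, pullback.condition]
  letI : Algebra Γ(X, U.1) Γ(Spec C, ⊤) := (x.appLE U.1 ⊤ hxU).hom.toAlgebra
  letI : Algebra Γ(W, q ⁻¹ᵁ U.1) Γ(P, ⊤) := ((pullback.fst q x).appLE (q ⁻¹ᵁ U.1) ⊤ hle).hom.toAlgebra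
  letI : Algebra Γ(Spec C, ⊤) Γ(P, ⊤) := ((pullback.snd q x).appLE ⊤ ⊤ le_top).hom.toAlgebra
  letI : Algebra Γ(X, U.1) Γ(P, ⊤) := (x.appLE U.1 ⊤ hxU ≫ (pullback.snd q x).appLE ⊤ ⊤ le_top).hom.toAlgebra
  haveI : IsScalarTower Γ(X, U.1) Γ(Spec C, ⊤) Γ(P, ⊤) := IsScalarTower.of_algebraMap_eq fun _ => rfl
  haveI : IsScalarTower Γ(X, U.1) Γ(W, q ⁻¹ᵁ U.1) Γ(P, ⊤) :=
    IsScalarTower.of_algebraMap_eq fun a => (ConcreteCategory.congr_hom hcomm a).symm
  haveI : Algebra.IsPushout Γ(X, U.1) Γ(Spec C, ⊤) Γ(W, q ⁻¹ᵁ U.1) Γ(P, ⊤) := by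
    refine CommRingCat.isPushout_iff_isPushout.1 ?_
    have := hpush.flip
    rw [show q.appLE U.1 (q ⁻¹ᵁ U.1) le_rfl = q.app U.1 from q.app_eq_appLE.symm] at this
    exact this
  show Vanishes q J x ↔ _
  rw [Vanishes, ideal_top_eq_bot_iff, IdealSh.Comap.ideal_comap J (pullback.fst q x) ⟨_, hV⟩ ⟨⊤, isAffineOpen_top P⟩ hle]
  refine (map_eq_bot_iff_coeff_le (A' := Γ(Spec C, ⊤)) (B' := Γ(P, ⊤)) Γ(X, U.1) (J.ideal ⟨_, hV⟩)).trans ?_
  have hφ : x.appLE U.1 ⊤ hxU = φ ≫ (Scheme.ΓSpecIso C).inv := by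
    have hU' : (⊤ : (Spec Γ(X, U.1)).Opens) ≤ U.2.fromSpec ⁻¹ᵁ U.1 := by rw [U.2.fromSpec_preimage_self]
    rw [← Scheme.Hom.appLE_comp_appLE (Spec.map φ) U.2.fromSpec U.1 ⊤ ⊤ hU' le_rfl,
      show (Spec.map φ).appLE ⊤ ⊤ le_rfl = (Spec.map φ).appTop from (Spec.map φ).app_eq_appLE.symm]
    rw [show U.2.fromSpec.appLE U.1 ⊤ hU' = (Scheme.ΓSpecIso Γ(X, U.1)).inv by
      rw [Scheme.Hom.appLE, U.2.fromSpec_app_self, Category.assoc, ← Functor.map_comp]
      rw [Subsingleton.elim (α := Opposite.op (⊤ : (Spec Γ(X, U.1)).Opens) ⟶ Opposite.op (⊤ : (Spec Γ(X, U.1)).Opens)) (_ ≫ _) (𝟙 _), CategoryTheory.Functor.map_id, Category.comp_id]]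
    exact (Scheme.ΓSpecIso_inv_naturality φ).symm
  have hker : RingHom.ker (x.appLE U.1 ⊤ hxU).hom = RingHom.ker φ.hom := by
    rw [hφ]
    exact RingHom.ker_comp_of_injective _ (ConcreteCategory.bijective_of_isIso (Scheme.ΓSpecIso C).inv).1
  exact Iff.of_eq (congrArg (coeff Γ(X, U.1) (J.ideal ⟨_, hV⟩) ≤ ·) hker)

end Groth.Agent.HilbD
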